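import Mathlib

/-!
# ODD half, D8, `K = M24`: definitions (helper785; text bb #10112, repair of Step 5 by helper508 #10484)

`Amb ι t`: `C_G(t) = ⟨t⟩ × ι(X)`, `ι : X →* G` injective (`X` is the Prelude group, `K = ι(X)`).
`Fam ι t z y`: the `X`-equivariant family `y u` (`u` in the class `C` of `z`): `y u` is an involution,
`t ↦ t u` under `y u`. `Facts`: the facts about `X = M24`; `z = x15`, `E = ⟨x12, x13, x14, x15⟩` (octad group),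
`E₂ = ⟨x15, x25, x35, x45⟩`, `E' = ⟨x21, x23, x24, x25⟩`, `V = ⟨x23, x24, x25⟩`, `r = x24`, `s = x35`,
`w = x34`, `w' = x35`.
-/

set_option autoImplicit false

namespace Cfsg.Agent.OddHalf.M24

open Subgroup

/-- `C_G(t) = ⟨t⟩ × ι(X)` -/
structure Amb {X G : Type*} [Group X] [Group G] (ι : X →* G) (t : G) : Prop where
  inj : Function.Injective ι
  tt : t * t = 1
  tι : ∀ x, ι x ≠ t
  ct : ∀ x, ι x * t = t * ι x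
  spl : ∀ g, g * t = t * g → ∃ x, g = ι x ∨ g = t * ι x

/-- the class of `z` -/
def Cl {X : Type*} [Group X] (z : X) : Set X := {u | ∃ k, k * z * k⁻¹ = u}

/-- the family `y` -/
structure Fam {X G : Type*} [Group X] [Group G] (ι : X →* G) (t : G) (z : X) (y : X → G) : Prop
    extends Amb ι t where
  zz : z * z = 1
  z1 : z ≠ 1
  ysq : ∀ u ∈ Cl z, y u * y u = 1
  yt : ∀ u ∈ Cl z, y u * t * (y u)⁻¹ = t * ι u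
  yeq : ∀ u ∈ Cl z, ∀ k, y (k * u * k⁻¹) = ι k * y u * (ι k)⁻¹
  /-- `t` is not conjugate to `z` -/
  tz : ∀ g, g * t * g⁻¹ ≠ ι z

/-- `w ∈ C` is a transvection on `E` with centre `a`, and fact (K3) -/
structure Tv {X : Type*} [Group X] (z : X) (E : Subgroup X) (w : X) : Prop where
  wC : w ∈ Cl z
  wE : w ∉ E
  nor : ∀ e ∈ E, w * e * w⁻¹ ∈ E
  tv : ∃ a ∈ E, a ≠ 1 ∧ w * a = a * w ∧ (∀ e ∈ E, w * e = e * w ∨ w * e * w⁻¹ = e * a) ∧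
    ∃ e ∈ E, w * e * w⁻¹ = e * a
  /-- (K3) -/
  k3 : ∀ q, q * q = 1 → (∀ e ∈ E, w * e = e * w → q * e = e * q) →
    (∀ c, c * w = w * c → (∀ e ∈ E, c * e * c⁻¹ ∈ E) →
      q * c * q⁻¹ * c⁻¹ ∈ E ∧ w * (q * c * q⁻¹ * c⁻¹) = q * c * q⁻¹ * c⁻¹ * w) →
    q * w = w * q ∨ q ∈ E

/-- facts used in Step 1 (`P = C_X(z)`) -/
structure FactsP {X : Type*} [Group X] (z : X) (E E₂ : Subgroup X) : Prop where
  zz : z * z = 1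
  z1 : z ≠ 1
  zE : z ∈ E
  zE₂ : z ∈ E₂
  /-- `Z(P) = ⟨z⟩` -/
  cP : ∀ c, c * z = z * c → (∀ p, p * z = z * p → p * c = c * p) → c = 1 ∨ c = z
  cE : ∀ e ∈ E, e * z = z * e
  cE₂ : ∀ e ∈ E₂, e * z = z * e
  nE : ∀ p, p * z = z * p → ∀ e ∈ E, p * e * p⁻¹ ∈ E
  nE₂ : ∀ p, p * z = z * p → ∀ e ∈ E₂, p * e * p⁻¹ ∈ E₂
  inf : ∀ e ∈ E, e ∈ E₂ → e = 1 ∨ e = z
  ex : ∃ b ∈ E, b ≠ 1 ∧ b ≠ z
  rot : ∀ b ∈ E, b ≠ 1 → b ≠ z → ∃ k, k * z * k⁻¹ = b ∧ k * b * k⁻¹ = z * b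
  rot₂ : ∀ b ∈ E₂, b ≠ 1 → b ≠ z → ∃ k, k * z * k⁻¹ = b ∧ k * b * k⁻¹ = z * b
  /-- an automorphism of `P` fixes or swaps `E`, `E₂` -/
  autE : ∀ β : MulAut (centralizer ({z} : Set X)),
    (∀ e : centralizer ({z} : Set X), (e : X) ∈ E → (β e : X) ∈ E) ∨
      ((∀ e : centralizer ({z} : Set X), (e : X) ∈ E → (β e : X) ∈ E₂) ∧
        (∀ e : centralizer ({z} : Set X), (e : X) ∈ E₂ → (β e : X) ∈ E))
  /-- an automorphism of `P` fixing `E` is inner -/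
  autI : ∀ β : MulAut (centralizer ({z} : Set X)),
    (∀ e : centralizer ({z} : Set X), (e : X) ∈ E → (β e : X) ∈ E) → ∃ p, β = MulAut.conj p

/-- facts about the octad group `E` -/
structure FactsE {X : Type*} [Group X] (z : X) (E : Subgroup X) : Prop where
  card : Nat.card E = 16
  EC : ∀ e ∈ E, e ≠ 1 → e ∈ Cl z
  cen : ∀ x, (∀ e ∈ E, x * e = e * x) → x ∈ E
  /-- `C_X(C_X(u, v)) = ⟨u, v⟩` -/
  dc : ∀ u ∈ E, ∀ v ∈ E, u ≠ 1 → v ≠ 1 → u ≠ v → ∀ x,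
    (∀ c, c * u = u * c → c * v = v * c → x * c = c * x) → x = 1 ∨ x = u ∨ x = v ∨ x = u * v
  swap : ∀ u ∈ E, ∀ v ∈ E, u ≠ 1 → v ≠ 1 → u ≠ v → ∃ k, k * u * k⁻¹ = v ∧ k * v * k⁻¹ = u
  rot : ∀ u ∈ E, ∀ v ∈ E, u ≠ 1 → v ≠ 1 → u ≠ v → ∃ k, k * u * k⁻¹ = v ∧ k * v * k⁻¹ = u * v
  /-- 2-transitivity -/
  two : ∀ u ∈ E, ∀ v ∈ E, ∀ u' ∈ E, ∀ v' ∈ E, u ≠ 1 → v ≠ 1 → u ≠ v → u' ≠ 1 → v' ≠ 1 → u' ≠ v' →
    ∃ k, k * u * k⁻¹ = u' ∧ k * v * k⁻¹ = v'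

/-- facts about `Q = E V` -/
structure FactsQ {X : Type*} [Group X] (z : X) (E E' V : Subgroup X) (r s w w' : X) : Prop where
  VE' : V ≤ E'
  /-- `E' ∩ N(E) = V` -/
  norV : ∀ e ∈ E', (∀ x ∈ E, e * x * e⁻¹ ∈ E) → e ∈ V
  inf : ∀ v ∈ V, v ∈ E → v = 1
  tvV : ∀ v ∈ V, v ≠ 1 → Tv z E v
  tvr : Tv z E r
  tvs : Tv z E s
  tvw : Tv z E w
  tvw' : Tv z E w'
  rs : r * s = s * r
  rsC : r * s ∈ Cl z
  /-- `C_X(C_X(r, s))` normalises `E` -/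
  dcrs : ∀ x, (∀ c, c * r = r * c → c * s = s * c → x * c = c * x) → ∀ e ∈ E, x * e * x⁻¹ ∈ E
  kw : ∃ k, (∀ x, x ∈ E' ↔ k * x * k⁻¹ ∈ E) ∧ k * w * k⁻¹ = r * s
  kw' : ∃ k, (∀ x, x ∈ E' ↔ k * x * k⁻¹ ∈ E) ∧ k * w' * k⁻¹ = r * s
  /-- `N(Q) ≤ N(E)` -/
  norQ : ∀ k, (∀ x ∈ E ⊔ V, k * x * k⁻¹ ∈ E ⊔ V) → ∀ e ∈ E, k * e * k⁻¹ ∈ E
  /-- the elements of `C ∩ (Q - E)` are `E`-conjugate to elements of `V` -/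
  conjV : ∀ c ∈ E ⊔ V, c ∈ Cl z → c ∉ E → ∃ e ∈ E, e * c * e⁻¹ ∈ V
  ww' : w * w' = w' * w
  wQ : w ∉ E ⊔ V
  w'Q : w' ∉ E ⊔ V
  ww'Q : w * w' ∉ E ⊔ V

end Cfsg.Agent.OddHalf.M24
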