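import Cfsg.Agent.KFacts.TwoSix.M24
import Cfsg.Agent.OddHalf.M24.Defs

/-!
# `FactsP` for `X = M24` (helper269)

`z = X15`, `E = E1 = ⟨X12, X13, X14, X15⟩`, `E₂ = E2 = ⟨X15, X25, X35, X45⟩`.
-/

set_option autoImplicit false

namespace Cfsg.Agent.OddHalf.M24.FactsPM24

open Cfsg Cfsg.Agent.SporadicRecognition.HeldModel Cfsg.Agent.Held.AffineIso
  Cfsg.Agent.KFacts.TwoSix.Aut Cfsg.Agent.KFacts.TwoSix.U Cfsg.Agent.KFacts.TwoSix.SheetDef
  Cfsg.Agent.KFacts.TwoSix.Sheet Cfsg.Agent.KFacts.TwoSix.M24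
open Cfsg.Agent.KFacts.M24Pair.Letters (xx weqb weq ev ev_cons ev_nil)
open Cfsg.Agent.KFacts.M24Two.CentZ (z E1 E2 C)

theorem conj_eq {k j i : ℕ} {w : List ℕ} (h : weqb [k, j] (w ++ [k]) = true) (hw : ev w = xx i) :
    xx k * xx j * (xx k)⁻¹ = xx i := by
  have h1 := weq h
  rw [KFacts.M24Pair.Letters.ev_append, hw, ev_cons, ev_cons, ev_cons, ev_nil, mul_one, mul_one] at h1
  rw [h1, mul_inv_cancel_right]

theorem rot_of {E : Subgroup M24} {P R : Subgroup M24} (h : Half z P R E) {b₀ k₀ : M24}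
    (hb : b₀ ∈ E) (h1 : b₀ ≠ 1) (hz : b₀ ≠ z) (hk : k₀ * z * k₀⁻¹ = b₀) (hk' : k₀ * b₀ * k₀⁻¹ = z * b₀)
    (hP : ∀ p ∈ P, p * z = z * p) (b : M24) (hbE : b ∈ E) (hb1 : b ≠ 1) (hbz : b ≠ z) :
    ∃ k, k * z * k⁻¹ = b ∧ k * b * k⁻¹ = z * b := by
  obtain ⟨p, hp, e⟩ := h.trans b₀ hb h1 hz b hbE hb1 hbz
  have hpz : p * z * p⁻¹ = z := by rw [hP p hp, mul_inv_cancel_right]
  have hpz' : p⁻¹ * z * p = z := by rw [mul_assoc, ← hP p hp, inv_mul_cancel_left]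
  have e' : p⁻¹ * b * p = b₀ := by rw [← e]; group
  refine ⟨p * k₀ * p⁻¹, ?_, ?_⟩
  · calc p * k₀ * p⁻¹ * z * (p * k₀ * p⁻¹)⁻¹ = p * (k₀ * (p⁻¹ * z * p) * k₀⁻¹) * p⁻¹ := by group
      _ = b := by rw [hpz', hk, e]
  · calc p * k₀ * p⁻¹ * b * (p * k₀ * p⁻¹)⁻¹ = p * (k₀ * (p⁻¹ * b * p) * k₀⁻¹) * p⁻¹ := by group
      _ = (p * z * p⁻¹) * (p * b₀ * p⁻¹) := by rw [e', hk']; group
      _ = z * b := by rw [hpz, e]

theorem xx_ne {i j : ℕ} (h : (List.range 24).any (fun a =>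
    !(Nat.beq (SporadicA.GolayPerm.papp (SporadicStructure.M24El.prodW KFacts.M24Pair.Letters.gx [i]) a)
      (SporadicA.GolayPerm.papp (SporadicStructure.M24El.prodW KFacts.M24Pair.Letters.gx [j]) a))) = true) :
    xx i ≠ xx j := by
  have h1 := KFacts.M24Pair.Letters.wne h
  rwa [ev_cons, ev_nil, mul_one, ev_cons, ev_nil, mul_one] at h1

/-- **the facts about `P = C(z)` for `M24`** -/
theorem factsP : FactsP z E1 E2 := by
  obtain ⟨f, hf, hx⟩ := exists_f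
  have hS := sheet_of hf.inj
  rw [im_R1 hx, im_R2 hx, hf.map_zz] at hS
  have hr : ∀ {p : M24}, p ∈ f.range ↔ p * z = z * p := by
    intro p
    rw [hf.range, Subgroup.mem_centralizer_singleton_iff]
  have hP : ∀ p ∈ f.range, p * z = z * p := fun p hp => hr.1 hp
  have hE1 : ∀ e ∈ E1, e * z = z * e := fun e he => hP e (hS.RP (hS.h1.ER he))
  have hE2 : ∀ e ∈ E2, e * z = z * e := fun e he => hP e (hS.RP (hS.h2.ER he))
  have m2 : xx 2 ∈ E1 := KFacts.M24Two.CentZ.xx_mem (by decide)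
  have m6 : xx 6 ∈ E2 := KFacts.M24Two.CentZ.xx_mem (by decide)
  have n2 : xx 2 ≠ 1 := KFacts.M24Pair.Letters.X_ne_one (i := 1) (j := 4) (by norm_num)
  have n6 : xx 6 ≠ 1 := KFacts.M24Pair.Letters.X_ne_one (i := 2) (j := 5) (by norm_num)
  have nz2 : xx 2 ≠ z := xx_ne (i := 2) (j := 3) (by decide +kernel)
  have nz6 : xx 6 ≠ z := xx_ne (i := 6) (j := 3) (by decide +kernel)
  have c14 : xx 14 * z * (xx 14)⁻¹ = xx 2 := conj_eq (k := 14) (j := 3) (w := [2]) (by decide +kernel)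
    (by rw [ev_cons, ev_nil, mul_one])
  have c14' : xx 14 * xx 2 * (xx 14)⁻¹ = z * xx 2 := by
    have h1 := weq (u := [14, 2]) (v := [3, 2, 14]) (by decide +kernel)
    simp only [ev_cons, ev_nil, mul_one] at h1
    rw [h1, ← mul_assoc, mul_inv_cancel_right]
    rfl
  have c12 : xx 12 * z * (xx 12)⁻¹ = xx 6 := conj_eq (k := 12) (j := 3) (w := [6]) (by decide +kernel)
    (by rw [ev_cons, ev_nil, mul_one])
  have c12' : xx 12 * xx 6 * (xx 12)⁻¹ = z * xx 6 := by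
    have h1 := weq (u := [12, 6]) (v := [3, 6, 12]) (by decide +kernel)
    simp only [ev_cons, ev_nil, mul_one] at h1
    rw [h1, ← mul_assoc, mul_inv_cancel_right]
    rfl
  -- the isomorphism `CC ≃* C(z)`
  let e : CC ≃* Subgroup.centralizer ({z} : Set M24) :=
    (MonoidHom.ofInjective hf.inj).trans (MulEquiv.subgroupCongr hf.range)
  have he : ∀ u : CC, ((e u : Subgroup.centralizer ({z} : Set M24)) : M24) = f u := fun _ => rfl
  have hm1 : ∀ u : CC, (f u ∈ E1 ↔ (u : L5) ∈ R1) := fun u => by rw [← im_R1 hx, f_mem_im hf.inj]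
  have hm2 : ∀ u : CC, (f u ∈ E2 ↔ (u : L5) ∈ R2) := fun u => by rw [← im_R2 hx, f_mem_im hf.inj]
  let b (β : MulAut (Subgroup.centralizer ({z} : Set M24))) : CC ≃* CC := (e.trans β).trans e.symm
  have hb : ∀ (β : MulAut (Subgroup.centralizer ({z} : Set M24))) (u : CC), e (b β u) = β (e u) :=
    fun β u => e.apply_symm_apply _
  have hfb : ∀ (β : MulAut (Subgroup.centralizer ({z} : Set M24))) (u : CC),
      f (b β u) = (β (e u) : Subgroup.centralizer ({z} : Set M24)) :=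
    fun β u => congrArg Subtype.val (hb β u)
  refine ⟨KFacts.M24Two.CentZ.zz, KFacts.M24Two.CentZ.z_ne, hS.h1.zE, hS.h2.zE, ?_, hE1, hE2,
    fun p hp e he => hS.h1.norE p (hr.2 hp) e he, fun p hp e he => hS.h2.norE p (hr.2 hp) e he,
    hS.inter, ⟨xx 2, m2, n2, nz2⟩, rot_of hS.h1 m2 n2 nz2 c14 c14' hP, rot_of hS.h2 m6 n6 nz6 c12 c12' hP,
    ?_, ?_⟩
  · intro c hc hcc
    apply hS.cR c (hr.2 hc)
    intro r hr'
    exact (hcc r (hP r (hS.RP hr'))).symm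
  · intro β
    rcases aut_cases (b β) with h | h
    · left
      intro a ha
      obtain ⟨u, rfl⟩ := e.surjective a
      rw [← hfb, hm1]
      exact h u ((hm1 u).1 ha)
    · right
      obtain ⟨p, hp⟩ := aut_outer (b β) h
      refine ⟨?_, ?_⟩
      · intro a ha
        obtain ⟨u, rfl⟩ := e.surjective a
        rw [← hfb, hm2]
        exact h u ((hm1 u).1 ha)
      · intro a ha
        obtain ⟨u, rfl⟩ := e.surjective a
        rw [← hfb, hm1, hp]
        have h2 : ((tauE u : CC) : L5) ∈ R1 := tau_mem_R1 ((hm2 u).1 ha)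
        exact KFacts.TwoSix.Facts.norm_R1 p.2 h2
  · intro β h
    obtain ⟨p, hp⟩ := aut_inner (b β) (by
      intro u hu
      rw [← hm1, hfb]
      exact h (e u) ((hm1 u).2 hu))
    refine ⟨e p, ?_⟩
    ext1 a
    obtain ⟨u, rfl⟩ := e.surjective a
    rw [← hb, hp, map_mul, map_mul, map_inv]
    rfl

end Cfsg.Agent.OddHalf.M24.FactsPM24
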