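import Cfsg.Agent.OddHalf.M24.Row
import Cfsg.Agent.OddHalf.M24.FactsPM24
import Cfsg.Agent.KFacts.M24Two.Join
import Cfsg.Agent.KFacts.M24Two.Out
import Cfsg.Agent.KFacts.M24Pair.FactsQ
import Cfsg.Agent.KFacts.M24Pair.LGood

/-!
# ODD half, D8: the row `K = M24` (helper785)

Facts by helper269 (`FactsP`), helper946 (`FactsE`, automorphisms), helper508 (`FactsQ`), helper138 (`FactsL`).
-/

set_option autoImplicit false

namespace Cfsg.Agent.OddHalf.M24.RowM24

open Subgroup Cfsg Cfsg.Agent.KFacts.TwoSix.M24 Cfsg.Agent.KFacts.TwoSix.Sheet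
open Cfsg.Agent.KFacts.M24Pair.Letters (xx)
open Cfsg.Agent.KFacts.M24Two.CentZ (z E1 E2 C)

universe u

theorem factsS : FactsS z := by
  refine ⟨?_, KFacts.M24Two.CentZ.C_perfect⟩
  obtain ⟨f, hf, hx⟩ := exists_f
  have hS := sheet_of hf.inj
  rw [im_R1 hx, im_R2 hx, hf.map_zz, hf.range] at hS
  have : Fact (Nat.Prime 2) := ⟨Nat.prime_two⟩
  set D : Subgroup M24 := centralizer ({z} : Set M24) with hD
  obtain ⟨T⟩ : Nonempty (Sylow 2 D) := inferInstance
  set S0 : Subgroup M24 := (T : Subgroup D).map D.subtype with hS0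
  have hle : S0 ≤ D := map_subtype_le _
  have hrel : ¬ 2 ∣ S0.relIndex D := by
    have h1 : S0.subgroupOf D = T := comap_map_eq_self_of_injective D.subtype_injective _
    rw [relIndex, h1]
    exact T.not_dvd_index
  have hcard : Nat.card D = 21504 := KFacts.M24Two.CentZ.card_C
  have hM : Nat.card M24 = 244823040 := Cfsg.Agent.SporadicA.M24Trans.card_M24
  have hidx : D.index = 11385 := by
    have h1 := D.card_mul_index
    rw [hcard, hM] at h1
    omega
  have hindex : ¬ 2 ∣ S0.index := by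
    rw [← relIndex_mul_index hle, Nat.Prime.dvd_mul Nat.prime_two, hidx]
    intro h
    rcases h with h | h
    · exact hrel h
    · omega
  have hp : IsPGroup 2 S0 := T.isPGroup'.map _
  have hSc : ∀ x ∈ S0, x * z = z * x := fun x hx => mem_centralizer_singleton_iff.1 (hle hx)
  have hcoe : ((hp.toSylow hindex : Sylow 2 M24) : Subgroup M24) = S0 := rfl
  have hmem : ∀ x, x ∈ hp.toSylow hindex ↔ x ∈ S0 := fun x => Iff.rfl
  have hzS : z ∈ S0 := by
    have h1 : IsPGroup 2 ((zpowers z ⊔ S0 : Subgroup M24)) := by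
      refine IsPGroup.to_sup_of_normal_right' (TR.Frame.isPGroup_zpowers KFacts.M24Two.CentZ.zz) hp ?_
      · rw [zpowers_le, mem_normalizer_iff]
        intro x
        have hz2 := KFacts.M24Two.CentZ.zz
        constructor
        · intro hx
          have : z * x * z⁻¹ = x := by rw [← hSc x hx, mul_inv_cancel_right]
          rwa [this]
        · intro hx
          have h3 := hSc _ hx
          have h4 : x = z * x * z⁻¹ := by
            have h5 : z * x = z * (z * x * z⁻¹) := by rw [← h3]; group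
            exact mul_left_cancel h5
          rwa [← h4] at hx
    have h2 := (hp.toSylow hindex).is_maximal' h1 le_sup_right
    have h3 : z ∈ zpowers z ⊔ S0 := (le_sup_left : zpowers z ≤ _) (mem_zpowers z)
    rw [h2] at h3
    exact h3
  refine ⟨hp.toSylow hindex, hzS, fun x hx => hSc x hx, fun y hy hc => ?_⟩
  exact hS.syl S0 hle hp hrel y (hle hy) fun s hs => (hc s hs).symm

theorem factsL : FactsL (KFacts.M24Pair.LQuot.E ⊔ KFacts.M24Pair.LQuot.V) := by
  rw [KFacts.M24Pair.LQuot.E_sup_V]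
  obtain ⟨h1, h2, h3, h4⟩ := KFacts.M24Pair.LGood.exists_rho
  exact ⟨⟨_, _, _, h2, h3, h1⟩, h4⟩

/-- **all facts about `M24`** -/
theorem all : All Cfsg.M24 where
  ex := ⟨_, _, _, _, _, _, _, _, _, FactsPM24.factsP, KFacts.M24Two.Join.factsE,
    KFacts.M24Pair.FactsQ.factsQ, factsL, factsS⟩
  inn := KFacts.M24Two.Out.exists_conj

/-- **the row `K = M24`** -/
theorem row : D8.Rows.Row.{u} (fun K _ => Spor.IsoM24 K) := row_of all

end Cfsg.Agent.OddHalf.M24.RowM24
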