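import Cfsg.Agent.OddHalf.M24.Trans

/-!
# ODD half, D8, `K = M24`: the doubled group `Q* = E* V*` (helper785)

`V* = E'* ∩ N(E*)`, `M = E* V*` (`big`). Output: `Big`.
-/

set_option autoImplicit false

namespace Cfsg.Agent.OddHalf.M24

open Subgroup

variable {X G : Type*} [Group X] [Group G] {ι : X →* G} {t : G} {z : X} {y : X → G}

/-- the output of Steps 2 - 5 -/
structure Big (ι : X →* G) (t : G) (y : X → G) (Q : Subgroup X) (M : Subgroup G) (w w' : X) :
    Prop where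
  tM : t ∈ normalizer (M : Set G)
  cen : ∀ m ∈ M, m * t = t * m → ∃ q ∈ Q, m = ι q
  le : ∀ q ∈ Q, ι q ∈ M
  /-- all involutions of `t M` are `M`-conjugate to `t` -/
  inv : ∀ m ∈ M, t * m * (t * m) = 1 → ∃ n ∈ M, n * t * n⁻¹ = t * m
  nor : ∀ k, ι k ∈ normalizer (M : Set G) ↔ ∀ q ∈ Q, k * q * k⁻¹ ∈ Q
  yw : y w ∈ normalizer (M : Set G)
  yw' : y w' ∈ normalizer (M : Set G)

/-- `ι k` maps `E'*` to `E*` if `k` maps `E'` to `E` -/
theorem Good.star_map {E E' : Subgroup X} (hE' : Good z y E') (F : Fam ι t z y) {k : X}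
    (hk : ∀ e ∈ E', k * e * k⁻¹ ∈ E) {m : G} (hm : m ∈ Star ι y E') :
    ι k * m * (ι k)⁻¹ ∈ Star ι y E := by
  induction hm using closure_induction with
  | mem x hx =>
    rcases hx with ⟨e, he, rfl⟩ | ⟨e, he, he1, rfl⟩
    · rw [← map_inv, ← map_mul, ← map_mul]
      exact ι_mem_star (hk e he)
    · rw [← F.yeq e (hE'.EC e he he1)]
      exact y_mem_star (hk e he) fun h1 => he1 (by
        rw [mul_inv_eq_one] at h1
        exact mul_eq_left.1 h1)
  | one => rw [mul_one, mul_inv_cancel]; exact one_mem _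
  | mul a b _ _ iha ihb =>
    have := (Star ι y E).mul_mem iha ihb
    have e : ι k * a * (ι k)⁻¹ * (ι k * b * (ι k)⁻¹) = ι k * (a * b) * (ι k)⁻¹ := by group
    rwa [e] at this
  | inv a _ iha =>
    have := (Star ι y E).inv_mem iha
    have e : (ι k * a * (ι k)⁻¹)⁻¹ = ι k * a⁻¹ * (ι k)⁻¹ := by group
    rwa [e] at this

section

variable {E E' V : Subgroup X}

/-- `ι x ∈ N(E*)` implies `x ∈ N(E)` -/
theorem Good.ι_nor (hE : Good z y E) (F : Fam ι t z y) {x : X}
    (hx : ι x ∈ normalizer (Star ι y E : Set G)) {e : X} (he : e ∈ E) : x * e * x⁻¹ ∈ E := by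
  have h1 : ι x * ι e * (ι x)⁻¹ ∈ Star ι y E := (mem_normalizer_iff.1 hx _).1 (ι_mem_star he)
  rw [← map_mul, ← map_inv, ← map_mul] at h1
  obtain ⟨f, hf, h2⟩ := hE.star_cen F h1 (F.ct _)
  rw [F.inj h2]
  exact hf

variable {r s w w' : X} [Finite G]

theorem Good.ι_mem_nor (hE : Good z y E) (F : Fam ι t z y) {x : X}
    (hx : ∀ e ∈ E, x * e * x⁻¹ ∈ E) : ι x ∈ normalizer (Star ι y E : Set G) :=
  mem_normalizer_fintype fun _ hm => hE.star_conj F hx hm

theorem Good.t_mem_nor (hE : Good z y E) (F : Fam ι t z y) :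
    t ∈ normalizer (Star ι y E : Set G) :=
  mem_normalizer_fintype fun _ hm => by
    rw [F.tinv]
    exact hE.star_t F hm

/-- `V* = E'* ∩ N(E*)` -/
def VS (ι : X →* G) (y : X → G) (E E' : Subgroup X) : Subgroup G :=
  Star ι y E' ⊓ normalizer (Star ι y E : Set G)

/-- `M = E* V*` -/
def MM (ι : X →* G) (y : X → G) (E E' : Subgroup X) : Subgroup G where
  carrier := {x | ∃ m ∈ Star ι y E, ∃ v ∈ VS ι y E E', x = m * v}
  mul_mem' := by
    rintro _ _ ⟨m, hm, v, hv, rfl⟩ ⟨n, hn, u, hu, rfl⟩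
    refine ⟨m * (v * n * v⁻¹), (Star ι y E).mul_mem hm ((mem_normalizer_iff.1 hv.2 n).1 hn), v * u,
      (VS ι y E E').mul_mem hv hu, ?_⟩
    group
  one_mem' := ⟨1, one_mem _, 1, one_mem _, (one_mul 1).symm⟩
  inv_mem' := by
    rintro _ ⟨m, hm, v, hv, rfl⟩
    refine ⟨v⁻¹ * m⁻¹ * v⁻¹⁻¹, (mem_normalizer_iff.1 (inv_mem hv.2) m⁻¹).1 (inv_mem hm), v⁻¹,
      inv_mem hv, ?_⟩
    group

omit [Finite G] in
theorem star_le_MM {m : G} (hm : m ∈ Star ι y E) : m ∈ MM ι y E E' :=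
  ⟨m, hm, 1, one_mem _, (mul_one m).symm⟩

omit [Finite G] in
theorem VS_le_MM {v : G} (hv : v ∈ VS ι y E E') : v ∈ MM ι y E E' :=
  ⟨1, one_mem _, v, hv, (one_mul v).symm⟩

/-- **Steps 4 and 5** -/
theorem big (F : Fam ι t z y) (fE : FactsE z E) (fQ : FactsQ z E E' V r s w w') :
    Big ι t y (E ⊔ V) (MM ι y E E') w w' := by
  have hE := fE.good F
  obtain ⟨k₀, hk₀, hk₀w⟩ := fQ.kw
  obtain ⟨k₁, hk₁, hk₁w⟩ := fQ.kw'
  have hE' : Good z y E' := hE.conj F hk₀
  have hV'E : ∀ v ∈ V, ∀ e ∈ E, v * e * v⁻¹ ∈ E := by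
    intro v hv e he
    by_cases h1 : v = 1
    · rw [h1, one_mul, inv_one, mul_one]; exact he
    · exact (fQ.tvV v hv h1).nor e he
  -- members of `V*`
  have hιV : ∀ v ∈ V, ι v ∈ VS ι y E E' := fun v hv =>
    ⟨ι_mem_star (fQ.VE' hv), hE.ι_mem_nor F (hV'E v hv)⟩
  have hyV : ∀ v ∈ V, v ≠ 1 → y v ∈ VS ι y E E' := fun v hv h1 =>
    ⟨y_mem_star (fQ.VE' hv) h1, mem_normalizer_fintype fun m hm =>
      hE.tv_conj F (fQ.tvV v hv h1) m hm⟩
  have hVS : ∀ m ∈ VS ι y E E', (∃ e ∈ V, m = ι e) ∨ (∃ v ∈ V, v ≠ 1 ∧ ∃ e ∈ V, m = y v * ι e) := by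
    intro m hm
    obtain ⟨v, hv, hac⟩ := hE'.starAc F m hm.1
    have hιv : ι v ∈ normalizer (Star ι y E : Set G) := by
      have h1 : ι v = t⁻¹ * (m * t * m⁻¹) := by
        unfold Ac at hac
        rw [hac]; group
      rw [h1]
      have ht := hE.t_mem_nor F
      exact mul_mem (inv_mem ht) (mul_mem (mul_mem hm.2 ht) (inv_mem hm.2))
    have hvV : v ∈ V := fQ.norV v hv fun e he => hE.ι_nor F hιv he
    rcases hE'.form F hm.1 hv hac with ⟨-, e, he, h1⟩ | ⟨hv1, e, he, h1⟩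
    · left
      refine ⟨e, fQ.norV e he fun f hf => hE.ι_nor F ?_ hf, h1⟩
      rw [← h1]; exact hm.2
    · right
      refine ⟨v, hvV, hv1, e, fQ.norV e he fun f hf => hE.ι_nor F ?_ hf, h1⟩
      have h2 : ι e = (y v)⁻¹ * m := by rw [h1]; group
      rw [h2]
      exact mul_mem (inv_mem (hyV v hvV hv1).2) hm.2
  -- `E ∩ E' = 1`
  have hEE' : ∀ e ∈ E, e ∈ E' → e = 1 := by
    intro e he he'
    apply fQ.inf e _ he
    apply fQ.norV e he'
    intro f hf
    rw [hE.comm F he hf, mul_inv_cancel_right]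
    exact hf
  have hinter : ∀ m, m ∈ Star ι y E → m ∈ Star ι y E' → m = 1 := by
    intro m hm hm'
    obtain ⟨v, hv, h1⟩ := hE.starAc F m hm
    obtain ⟨v', hv', h2⟩ := hE'.starAc F m hm'
    have h3 := Ac.inj F.toAmb h1 h2
    have hv1 : v = 1 := hEE' v hv (h3 ▸ hv')
    rw [hv1] at h1
    obtain ⟨e, he, h4⟩ := hE.star_cen F hm (Ac.one_iff.1 h1)
    obtain ⟨e', he', h5⟩ := hE'.star_cen F hm' (Ac.one_iff.1 h1)
    have h6 : e = e' := F.inj (h4.symm.trans h5)
    rw [h4, hEE' e he (h6 ▸ he'), map_one]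
  have hVt : ∀ v ∈ VS ι y E E', t * v * t ∈ VS ι y E E' := by
    intro v hv
    refine ⟨hE'.star_t F hv.1, ?_⟩
    have ht := hE.t_mem_nor F
    exact mul_mem (mul_mem ht hv.2) ht
  -- `C_M(t)`
  have hsplit : ∀ m ∈ Star ι y E, ∀ v ∈ VS ι y E E', t * (m * v) * t = m * v →
      t * m * t = m ∧ t * v * t = v := by
    intro m hm v hv h
    have h1 : t * (m * v) * t = (t * m * t) * (t * v * t) := by
      calc t * (m * v) * t = t * m * 1 * v * t := by group
        _ = t * m * (t * t) * v * t := by rw [F.tt]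
        _ = _ := by group
    rw [h1] at h
    have h2 : m⁻¹ * (t * m * t) = v * (t * v * t)⁻¹ := by
      calc m⁻¹ * (t * m * t) = m⁻¹ * ((t * m * t) * (t * v * t)) * (t * v * t)⁻¹ := by group
        _ = v * (t * v * t)⁻¹ := by rw [h]; group
    have h3 : m⁻¹ * (t * m * t) = 1 := by
      apply hinter
      · exact mul_mem (inv_mem hm) (hE.star_t F hm)
      · rw [h2]
        exact mul_mem hv.1 (inv_mem (hVt v hv).1)
    refine ⟨(inv_mul_eq_one.1 h3).symm, ?_⟩
    rw [h3] at h2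
    exact (mul_inv_eq_one.1 h2.symm).symm
  have htt : ∀ x : G, t * x * t = x → x * t = t * x := by
    intro x h
    calc x * t = t * t * (x * t) := by rw [F.tt, one_mul]
      _ = t * (t * x * t) := by group
      _ = t * x := by rw [h]
  have htt' : ∀ x : G, x * t = t * x → t * x * t = x := by
    intro x h
    rw [mul_assoc, h, ← mul_assoc, F.tt, one_mul]
  have hcenV : ∀ v ∈ VS ι y E E', v * t = t * v → ∃ e ∈ V, v = ι e := by
    intro v hv h
    rcases hVS v hv with ⟨e, he, h1⟩ | ⟨u, hu, hu1, e, he, h1⟩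
    · exact ⟨e, he, h1⟩
    · exfalso
      have huC := hE'.EC u (fQ.VE' hu) hu1
      have h2 : Ac ι t v (u * 1) := by
        rw [h1]
        exact (F.yac huC).mul (F.ac e) (by rw [map_one, mul_one, one_mul])
      have h3 := Ac.inj F.toAmb h2 (Ac.one_iff.2 h)
      rw [mul_one] at h3
      exact hu1 h3
  have hle : ∀ q ∈ E ⊔ V, ι q ∈ MM ι y E E' := by
    have h1 : E ⊔ V ≤ (MM ι y E E').comap ι := by
      rw [sup_le_iff]
      exact ⟨fun e he => star_le_MM (ι_mem_star he), fun v hv => VS_le_MM (hιV v hv)⟩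
    exact fun q hq => h1 hq
  have hcen : ∀ m ∈ MM ι y E E', m * t = t * m → ∃ q ∈ E ⊔ V, m = ι q := by
    rintro _ ⟨m, hm, v, hv, rfl⟩ h
    obtain ⟨h1, h2⟩ := hsplit m hm v hv (htt' _ h)
    obtain ⟨e, he, h3⟩ := hE.star_cen F hm (htt _ h1)
    obtain ⟨f, hf, h4⟩ := hcenV v hv (htt _ h2)
    exact ⟨e * f, (E ⊔ V).mul_mem ((le_sup_left : E ≤ _) he) ((le_sup_right : V ≤ _) hf), by
      rw [h3, h4, map_mul]⟩
  -- involutions of `t E*`
  have hinvE : ∀ m ∈ Star ι y E, t * m * (t * m) = 1 → ∃ n ∈ Star ι y E, n * t * n⁻¹ = t * m := by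
    intro m hm h
    have h1 : t * m * t = m := by
      have h2 : t * m * t = m⁻¹ := by
        apply eq_inv_of_mul_eq_one_left
        calc t * m * t * m = t * m * (t * m) := by group
          _ = 1 := h
      rw [h2]
      exact inv_eq_of_mul_eq_one_left (hE.starSq F m hm)
    obtain ⟨e, he, h3⟩ := hE.star_cen F hm (htt _ h1)
    by_cases he1 : e = 1
    · refine ⟨1, one_mem _, ?_⟩
      rw [h3, he1, map_one]; group
    · refine ⟨y e, y_mem_star he he1, ?_⟩
      rw [F.yt e (hE.EC e he he1), h3]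
  have hMn : ∀ g, g ∈ normalizer (Star ι y E : Set G) → g ∈ normalizer (Star ι y E' : Set G) →
      g ∈ normalizer (MM ι y E E' : Set G) := by
    intro g h1 h2
    apply mem_normalizer_fintype
    rintro _ ⟨m, hm, v, hv, rfl⟩
    refine ⟨g * m * g⁻¹, (mem_normalizer_iff.1 h1 m).1 hm, g * v * g⁻¹,
      ⟨(mem_normalizer_iff.1 h2 v).1 hv.1, Subgroup.mul_mem _ (Subgroup.mul_mem _ h1 hv.2)
        (Subgroup.inv_mem _ h1)⟩, by group⟩
  -- `y_w` normalises `E'*`
  have hyw' : ∀ {k w : X}, w ∈ Cl z → (∀ x, x ∈ E' ↔ k * x * k⁻¹ ∈ E) → k * w * k⁻¹ = r * s →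
      y w ∈ normalizer (Star ι y E' : Set G) := by
    intro k w hw hk hkw
    apply mem_normalizer_fintype
    intro m hm
    have h1 : ι k * m * (ι k)⁻¹ ∈ Star ι y E := hE'.star_map F (fun e he => (hk e).1 he) hm
    have h2 := hE.rs_conj F fQ.tvr fQ.tvs fQ.rs fQ.rsC fQ.dcrs _ h1
    have h3 := hE.star_map F (E := E') (k := k⁻¹) (fun e he => (hk _).2 (by
      have e1 : k * (k⁻¹ * e * k⁻¹⁻¹) * k⁻¹ = e := by group
      rw [e1]; exact he)) h2
    have h4 : y (r * s) = ι k * y w * (ι k)⁻¹ := by rw [← hkw, F.yeq w hw]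
    have h5 : ι k⁻¹ * (y (r * s) * (ι k * m * (ι k)⁻¹) * (y (r * s))⁻¹) * (ι k⁻¹)⁻¹ =
        y w * m * (y w)⁻¹ := by
      rw [h4, map_inv]; group
    rwa [h5] at h3
  refine ⟨?_, hcen, hle, ?_, ?_, ?_, ?_⟩
  · exact hMn t (hE.t_mem_nor F) (hE'.t_mem_nor F)
  · rintro _ ⟨m, hm, v, hv, rfl⟩ h
    have h1 : t * v * t * v = 1 := by
      have h2 : (t * m * t) * ((t * v * t) * m * (t * v * t)⁻¹) * (t * v * t * v) = 1 := by
        calc (t * m * t) * ((t * v * t) * m * (t * v * t)⁻¹) * (t * v * t * v)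
            = t * m * (t * t) * v * t * m * v := by group
          _ = t * (m * v) * (t * (m * v)) := by rw [F.tt]; group
          _ = 1 := h
      have hv' := hVt v hv
      have h3 : (t * m * t) * ((t * v * t) * m * (t * v * t)⁻¹) ∈ Star ι y E :=
        mul_mem (hE.star_t F hm) ((mem_normalizer_iff.1 hv'.2 m).1 hm)
      have h4 : t * v * t * v = ((t * m * t) * ((t * v * t) * m * (t * v * t)⁻¹))⁻¹ :=
        eq_inv_of_mul_eq_one_right h2
      apply hinter
      · rw [h4]; exact inv_mem h3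
      · exact mul_mem hv'.1 hv.1
    have h2 : t * v * t = v := by
      rw [eq_inv_of_mul_eq_one_left h1]
      exact inv_eq_of_mul_eq_one_left (hE'.starSq F v hv.1)
    obtain ⟨f, hf, hfv⟩ := hcenV v hv (htt _ h2)
    by_cases hf1 : f = 1
    · rw [hfv, hf1, map_one, mul_one] at h ⊢
      obtain ⟨n, hn, h3⟩ := hinvE m hm h
      exact ⟨n, star_le_MM hn, h3⟩
    · have hfC := hE'.EC f (fQ.VE' hf) hf1
      have hY := F.ysq f hfC
      have hYi := F.yinv hfC
      have hYV := hyV f hf hf1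
      have hf2 : ι f * ι f = 1 := F.ιsq hfC
      have hfi : (ι f)⁻¹ = ι f := inv_eq_of_mul_eq_one_left hf2
      have hYf : y f * ι f = ι f * y f := (F.ycomm hfC rfl).symm
      have hYt : y f * t * y f = t * ι f := F.WtW hfC
      set m2 := ι f * (y f * m * (y f)⁻¹) * (ι f)⁻¹ with hm2
      have hm2S : m2 ∈ Star ι y E :=
        hE.star_conj F (hV'E f hf) ((mem_normalizer_iff.1 hYV.2 m).1 hm)
      have h3 : y f * (t * (m * v)) * y f = t * m2 := by
        calc y f * (t * (m * v)) * y f = y f * t * 1 * m * v * y f := by group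
          _ = y f * t * (y f * y f) * m * (ι f * y f) := by rw [hY, hfv]; group
          _ = (y f * t * y f) * (y f * m) * (y f * ι f) := by rw [← hYf]; group
          _ = t * (ι f * (y f * m * y f) * ι f) := by rw [hYt]; group
          _ = t * m2 := by rw [hm2, hYi, hfi]
      have h4 : t * m2 * (t * m2) = 1 := by
        rw [← h3]
        calc y f * (t * (m * v)) * y f * (y f * (t * (m * v)) * y f)
            = y f * (t * (m * v)) * (y f * y f) * (t * (m * v)) * y f := by group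
          _ = y f * (t * (m * v) * (t * (m * v))) * y f := by rw [hY]; group
          _ = 1 := by rw [h, mul_one, hY]
      obtain ⟨n, hn, h5⟩ := hinvE m2 hm2S h4
      refine ⟨y f * n, mul_mem (VS_le_MM hYV) (star_le_MM hn), ?_⟩
      calc y f * n * t * (y f * n)⁻¹ = y f * (n * t * n⁻¹) * (y f)⁻¹ := by group
        _ = y f * (y f * (t * (m * v)) * y f) * y f := by rw [h5, ← h3, hYi]
        _ = (y f * y f) * (t * (m * v)) * (y f * y f) := by group
        _ = t * (m * v) := by rw [hY, one_mul, mul_one]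
  · intro k
    constructor
    · intro hk q hq
      have h1 : ι k * ι q * (ι k)⁻¹ ∈ MM ι y E E' := (mem_normalizer_iff.1 hk _).1 (hle q hq)
      rw [← map_mul, ← map_inv, ← map_mul] at h1
      obtain ⟨q', hq', h2⟩ := hcen _ h1 (F.ct _)
      rw [F.inj h2]
      exact hq'
    · intro hk
      have hkE := fQ.norQ k hk
      have hfin : Finite E := Nat.finite_of_card_ne_zero (by rw [fE.card]; norm_num)
      have hkN : k ∈ normalizer (E : Set X) := by
        have : Finite (E : Set X) := hfin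
        exact mem_normalizer_fintype hkE
      apply mem_normalizer_fintype
      rintro _ ⟨m, hm, v, hv, rfl⟩
      have e1 : ι k * (m * v) * (ι k)⁻¹ = (ι k * m * (ι k)⁻¹) * (ι k * v * (ι k)⁻¹) := by group
      rw [e1]
      refine mul_mem (star_le_MM (hE.star_conj F hkE hm)) ?_
      have hιk : ∀ e ∈ V, ι k * ι e * (ι k)⁻¹ ∈ MM ι y E E' := by
        intro e he
        rw [← map_mul, ← map_inv, ← map_mul]
        exact hle _ (hk e ((le_sup_right : V ≤ _) he))
      rcases hVS v hv with ⟨e, he, h1⟩ | ⟨u, hu, hu1, e, he, h1⟩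
      · rw [h1]; exact hιk e he
      · have e2 : ι k * v * (ι k)⁻¹ = (ι k * y u * (ι k)⁻¹) * (ι k * ι e * (ι k)⁻¹) := by
          rw [h1]; group
        rw [e2]
        refine mul_mem ?_ (hιk e he)
        have huC := hE'.EC u (fQ.VE' hu) hu1
        rw [← F.yeq u huC]
        set c := k * u * k⁻¹ with hc
        have hcC : c ∈ Cl z := Cl_conj huC k
        have hcQ : c ∈ E ⊔ V := hk u ((le_sup_right : V ≤ _) hu)
        have hcE : c ∉ E := fun h => hu1 (fQ.inf u hu ((mem_normalizer_iff.1 hkN u).2 h))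
        obtain ⟨e0, he0, h2⟩ := fQ.conjV c hcQ hcC hcE
        have hv2 : e0 * c * e0⁻¹ ≠ 1 := fun h3 => F.ne1 hcC (by
          rw [mul_inv_eq_one] at h3
          exact mul_eq_left.1 h3)
        have h3 : y c = (ι e0)⁻¹ * y (e0 * c * e0⁻¹) * ι e0 := by
          rw [F.yeq c hcC]; group
        rw [h3]
        have h4 := star_le_MM (E' := E') (y := y) (ι_mem_star (ι := ι) (y := y) he0)
        exact mul_mem (mul_mem (inv_mem h4) (VS_le_MM (hyV _ h2 hv2))) h4
  · exact hMn _ (mem_normalizer_fintype fun m hm => hE.tv_conj F fQ.tvw m hm)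
      (hyw' fQ.tvw.wC hk₀ hk₀w)
  · exact hMn _ (mem_normalizer_fintype fun m hm => hE.tv_conj F fQ.tvw' m hm)
      (hyw' fQ.tvw'.wC hk₁ hk₁w)

end

end Cfsg.Agent.OddHalf.M24
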