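import Cfsg.Agent.OddHalf.M24.Defs

/-!
# ODD half, D8, `K = M24`: Step 2 (helper785)

The involutions `y u`, `u ∈ E - 1`, commute (`Fam.comm`).
-/

set_option autoImplicit false

namespace Cfsg.Agent.OddHalf.M24

open Subgroup

section

variable {X : Type*} [Group X] {z : X}

theorem Cl_conj {u : X} (hu : u ∈ Cl z) (k : X) : k * u * k⁻¹ ∈ Cl z := by
  obtain ⟨m, rfl⟩ := hu
  exact ⟨k * m, by group⟩

theorem Cl_sq (hz : z * z = 1) {u : X} (hu : u ∈ Cl z) : u * u = 1 := by
  obtain ⟨m, rfl⟩ := hu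
  calc m * z * m⁻¹ * (m * z * m⁻¹) = m * (z * z) * m⁻¹ := by group
    _ = 1 := by rw [hz]; group

theorem Cl_ne (hz : z ≠ 1) {u : X} (hu : u ∈ Cl z) : u ≠ 1 := by
  obtain ⟨m, rfl⟩ := hu
  intro h
  apply hz
  rw [mul_inv_eq_one] at h
  exact mul_eq_left.1 h

end

variable {X G : Type*} [Group X] [Group G] {ι : X →* G} {t : G} {z : X} {y : X → G}

/-- `m` maps `t` to `t v` -/
def Ac (ι : X →* G) (t : G) (m : G) (v : X) : Prop := m * t * m⁻¹ = t * ι v

theorem Ac.mul {m n : G} {v w : X} (h1 : Ac ι t m v) (h2 : Ac ι t n w) (h : m * ι w = ι w * m) :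
    Ac ι t (m * n) (v * w) := by
  unfold Ac at *
  calc m * n * t * (m * n)⁻¹ = m * (n * t * n⁻¹) * m⁻¹ := by group
    _ = m * t * (m⁻¹ * (m * ι w)) * m⁻¹ := by rw [h2]; group
    _ = m * t * m⁻¹ * ι w := by rw [h]; group
    _ = t * ι (v * w) := by rw [h1, map_mul, mul_assoc]

theorem Ac.one_iff {m : G} : Ac ι t m 1 ↔ m * t = t * m := by
  unfold Ac
  rw [map_one, mul_one, mul_inv_eq_iff_eq_mul]

theorem Ac.inj (F : Amb ι t) {m : G} {v w : X} (h1 : Ac ι t m v) (h2 : Ac ι t m w) : v = w := by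
  unfold Ac at *
  exact F.inj (mul_left_cancel (h1.symm.trans h2))

namespace Amb

theorem tinv (F : Amb ι t) : t⁻¹ = t := inv_eq_of_mul_eq_one_left F.tt

theorem ac (F : Amb ι t) (x : X) : Ac ι t (ι x) 1 := Ac.one_iff.2 (F.ct x)

/-- `spl` with commuting information -/
theorem spl' (F : Amb ι t) {g : G} (hg : g * t = t * g) :
    ∃ x, (g = ι x ∨ g = t * ι x) ∧ (∀ k, g * ι k = ι k * g → x * k = k * x) ∧
      (∀ k, ι k * g * (ι k)⁻¹ = g → k * x * k⁻¹ = x) := by
  obtain ⟨x, hx⟩ := F.spl g hg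
  refine ⟨x, hx, ?_, ?_⟩
  · intro k hk
    apply F.inj
    rw [map_mul, map_mul]
    rcases hx with rfl | rfl
    · exact hk
    · have h1 : t * (ι x * ι k) = t * (ι k * ι x) := by
        calc t * (ι x * ι k) = t * ι x * ι k := by group
          _ = ι k * t * ι x := by rw [hk]; group
          _ = t * (ι k * ι x) := by rw [F.ct]; group
      exact mul_left_cancel h1
  · intro k hk
    apply F.inj
    rw [map_mul, map_mul, map_inv]
    rcases hx with rfl | rfl
    · exact hk
    · have h1 : t * (ι k * ι x * (ι k)⁻¹) = t * ι x := by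
        calc t * (ι k * ι x * (ι k)⁻¹) = (t * ι k) * ι x * (ι k)⁻¹ := by group
          _ = ι k * (t * ι x) * (ι k)⁻¹ := by rw [← F.ct]; group
          _ = t * ι x := hk
      exact mul_left_cancel h1

end Amb

namespace Fam

theorem sq (F : Fam ι t z y) {u : X} (hu : u ∈ Cl z) : u * u = 1 := Cl_sq F.zz hu

theorem ne1 (F : Fam ι t z y) {u : X} (hu : u ∈ Cl z) : u ≠ 1 := Cl_ne F.z1 hu

theorem ιsq (F : Fam ι t z y) {u : X} (hu : u ∈ Cl z) : ι u * ι u = 1 := by
  rw [← map_mul, F.sq hu, map_one]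

theorem ιne (F : Fam ι t z y) {u : X} (hu : u ≠ 1) : ι u ≠ 1 := fun h =>
  hu (F.inj (h.trans (map_one ι).symm))

theorem ycomm (F : Fam ι t z y) {u : X} (hu : u ∈ Cl z) {k : X} (h : k * u = u * k) :
    ι k * y u = y u * ι k := by
  have h1 := F.yeq u hu k
  rw [show k * u * k⁻¹ = u by rw [h]; group] at h1
  rw [eq_mul_inv_iff_mul_eq] at h1
  exact h1.symm

theorem yinv (F : Fam ι t z y) {u : X} (hu : u ∈ Cl z) : (y u)⁻¹ = y u :=
  inv_eq_of_mul_eq_one_left (F.ysq u hu)

theorem yac (F : Fam ι t z y) {u : X} (hu : u ∈ Cl z) : Ac ι t (y u) u := F.yt u hu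

/-- `t y_u t = y_u u` -/
theorem tyt (F : Fam ι t z y) {u : X} (hu : u ∈ Cl z) : t * y u * t = y u * ι u := by
  have h1 := F.yt u hu
  have h2 : y u * t = t * ι u * y u := mul_inv_eq_iff_eq_mul.1 h1
  have h3 : ι u * y u = y u * ι u := F.ycomm hu rfl
  calc t * y u * t = t * (y u * t) := by group
    _ = (t * t) * (ι u * y u) := by rw [h2]; group
    _ = y u * ι u := by rw [F.tt, one_mul, h3]

/-- `y_u` is not in the centralizer of `t` -/
theorem y_not_comm (F : Fam ι t z y) {u : X} (hu : u ∈ Cl z) : y u * t ≠ t * y u := by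
  intro h
  have h1 := Ac.inj F.toAmb (F.yac hu) (Ac.one_iff.2 h)
  exact F.ne1 hu h1

/-- **Step 2, first half** -/
theorem comm_or (F : Fam ι t z y) {u v : X} (hu : u ∈ Cl z) (hv : v ∈ Cl z) (huv : u * v = v * u)
    (hne : u ≠ v)
    (dc : ∀ x, (∀ c, c * u = u * c → c * v = v * c → x * c = c * x) →
      x = 1 ∨ x = u ∨ x = v ∨ x = u * v)
    (swap : ∃ k, k * u * k⁻¹ = v ∧ k * v * k⁻¹ = u) :
    y u * y v = y v * y u ∨ y u * y v * (y u * y v) = ι (u * v) := by
  have hu2 := F.sq hu
  have hv2 := F.sq hv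
  have h1 : Ac ι t (y u * y v) (u * v) :=
    (F.yac hu).mul (F.yac hv) (F.ycomm hu huv.symm).symm
  have h2 : y u * y v * ι (u * v) = ι (u * v) * (y u * y v) := by
    have a1 : ι (u * v) * y u = y u * ι (u * v) := F.ycomm hu (by rw [mul_assoc, ← huv])
    have a2 : ι (u * v) * y v = y v * ι (u * v) := F.ycomm hv (by
      rw [mul_assoc, ← mul_assoc v, ← huv, mul_assoc])
    calc y u * y v * ι (u * v) = y u * (y v * ι (u * v)) := by group
      _ = y u * ι (u * v) * y v := by rw [← a2]; group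
      _ = ι (u * v) * (y u * y v) := by rw [← a1]; group
  have h3 : Ac ι t (y u * y v * (y u * y v)) (u * v * (u * v)) := h1.mul h1 h2
  have huv2 : u * v * (u * v) = 1 := by
    calc u * v * (u * v) = u * (v * u) * v := by group
      _ = (u * u) * (v * v) := by rw [← huv]; group
      _ = 1 := by rw [hu2, hv2, one_mul]
  rw [huv2] at h3
  obtain ⟨x, hx, hxc, hxf⟩ := F.spl' (Ac.one_iff.1 h3)
  have hxx := dc x (fun c hcu hcv => hxc c (by
    have a1 := F.ycomm hu hcu
    have a2 := F.ycomm hv hcv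
    have a3 : y u * y v * ι c = ι c * (y u * y v) := by
      calc y u * y v * ι c = y u * (y v * ι c) := by group
        _ = (y u * ι c) * y v := by rw [← a2]; group
        _ = ι c * (y u * y v) := by rw [← a1]; group
    calc y u * y v * (y u * y v) * ι c = y u * y v * (y u * y v * ι c) := mul_assoc _ _ _
      _ = y u * y v * (ι c * (y u * y v)) := by rw [a3]
      _ = (y u * y v * ι c) * (y u * y v) := (mul_assoc _ _ _).symm
      _ = (ι c * (y u * y v)) * (y u * y v) := by rw [a3]
      _ = ι c * (y u * y v * (y u * y v)) := mul_assoc _ _ _))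
  -- `x` has order `≤ 2` and commutes with `u`, `v`
  have hxsq : x * x = 1 := by
    rcases hxx with rfl | rfl | rfl | rfl
    · exact one_mul 1
    · exact hu2
    · exact hv2
    · exact huv2
  have hxv : x * v = v * x := by
    rcases hxx with rfl | rfl | rfl | rfl
    · rw [one_mul, mul_one]
    · exact huv
    · rfl
    · rw [mul_assoc, ← mul_assoc v, ← huv, mul_assoc]
  -- `y v` inverts `c`
  have hinv : y v * (y u * y v * (y u * y v)) * y v = y v * y u * (y v * y u) := by
    calc y v * (y u * y v * (y u * y v)) * y v = y v * y u * (y v * y u) * (y v * y v) := by group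
      _ = y v * y u * (y v * y u) := by rw [F.ysq v hv, mul_one]
  have hprod : y u * y v * (y u * y v) * (y v * y u * (y v * y u)) = 1 := by
    calc y u * y v * (y u * y v) * (y v * y u * (y v * y u))
        = y u * y v * y u * (y v * y v) * y u * (y v * y u) := by group
      _ = y u * y v * (y u * y u) * (y v * y u) := by rw [F.ysq v hv]; group
      _ = y u * (y v * y v) * y u := by rw [F.ysq u hu]; group
      _ = 1 := by rw [F.ysq v hv, mul_one, F.ysq u hu]
  rcases hx with hx | hx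
  · -- `c = ι x`
    have hcc : y v * y u * (y v * y u) = y u * y v * (y u * y v) := by
      rw [hx] at hprod ⊢
      have h5 : ι x * ι x = 1 := by rw [← map_mul, hxsq, map_one]
      exact mul_left_cancel (hprod.trans h5.symm)
    obtain ⟨k, hk1, hk2⟩ := swap
    have hkc : ι k * (y u * y v * (y u * y v)) * (ι k)⁻¹ = y u * y v * (y u * y v) := by
      have e1 : ι k * y u * (ι k)⁻¹ = y v := by rw [← F.yeq u hu, hk1]
      have e2 : ι k * y v * (ι k)⁻¹ = y u := by rw [← F.yeq v hv, hk2]
      calc ι k * (y u * y v * (y u * y v)) * (ι k)⁻¹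
          = (ι k * y u * (ι k)⁻¹) * (ι k * y v * (ι k)⁻¹) *
            ((ι k * y u * (ι k)⁻¹) * (ι k * y v * (ι k)⁻¹)) := by group
        _ = y v * y u * (y v * y u) := by rw [e1, e2]
        _ = _ := hcc
    have hkx := hxf k hkc
    rcases hxx with rfl | rfl | rfl | rfl
    · left
      rw [map_one] at hx
      have h6 : (y u * y v)⁻¹ = y v * y u := by rw [mul_inv_rev, F.yinv hu, F.yinv hv]
      rw [← h6]
      exact eq_inv_of_mul_eq_one_left hx
    · exact absurd (hkx.symm.trans hk1) hne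
    · exact absurd (hk2.symm.trans hkx) hne
    · exact Or.inr hx
  · -- `c = t ι x` is impossible
    exfalso
    have h5 : t * ι x * (t * ι x) = 1 := by
      calc t * ι x * (t * ι x) = t * (ι x * t) * ι x := by group
        _ = t * t * (ι x * ι x) := by rw [F.ct]; group
        _ = 1 := by rw [F.tt, ← map_mul, hxsq, map_one, one_mul]
    have h6 : y v * (t * ι x) * y v = t * ι x := by
      rw [← hx, hinv]
      rw [hx] at hprod ⊢
      exact mul_left_cancel (hprod.trans h5.symm)
    have h7 : ι x * y v = y v * ι x := F.ycomm hv hxv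
    have h8 : y v * t * y v = t * ι v := by
      have := F.yt v hv
      rwa [F.yinv hv] at this
    have h9 : t * ι v * ι x = t * ι x := by
      calc t * ι v * ι x = y v * t * (y v * ι x) := by rw [← h8]; group
        _ = y v * (t * ι x) * y v := by rw [← h7]; group
        _ = t * ι x := h6
    have h10 : ι v = 1 := by
      have h11 : t * ι v * ι x = t * 1 * ι x := by rw [h9, mul_one]
      exact mul_left_cancel (mul_right_cancel h11)
    exact F.ιne (F.ne1 hv) h10

/-- the elements `t y_u` -/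
theorem zsq (F : Fam ι t z y) {u : X} (hu : u ∈ Cl z) : t * y u * (t * y u) = ι u := by
  calc t * y u * (t * y u) = (t * y u * t) * y u := by group
    _ = y u * (ι u * y u) := by rw [F.tyt hu]; group
    _ = (y u * y u) * ι u := by rw [F.ycomm hu rfl]; group
    _ = ι u := by rw [F.ysq u hu, one_mul]

theorem zinv (F : Fam ι t z y) {u : X} (hu : u ∈ Cl z) : (t * y u)⁻¹ = y u * t := by
  rw [mul_inv_rev, F.yinv hu, F.tinv]

/-- phantom: the `t y_u` commute -/
theorem zcomm (F : Fam ι t z y) {u v : X} (hu : u ∈ Cl z) (hv : v ∈ Cl z)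
    (h : y u * y v * (y u * y v) = ι (u * v)) : t * y u * (t * y v) = t * y v * (t * y u) := by
  have h1 : y u * y v = ι (u * v) * (y v * y u) := by
    have h6 : (y u * y v)⁻¹ = y v * y u := by rw [mul_inv_rev, F.yinv hu, F.yinv hv]
    rw [← h6]
    exact eq_mul_inv_of_mul_eq h
  calc t * y u * (t * y v) = (t * y u * t) * y v := by group
    _ = (y u * ι u) * y v := by rw [F.tyt hu]
    _ = ι u * (y u * y v) := by rw [← F.ycomm hu (k := u) rfl]; group
    _ = ι u * (ι (u * v) * (y v * y u)) := by rw [h1]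
    _ = ι (u * (u * v)) * (y v * y u) := by rw [map_mul ι u (u * v)]; group
    _ = ι v * (y v * y u) := by rw [← mul_assoc u u v, F.sq hu, one_mul]
    _ = (y v * ι v) * y u := by rw [← F.ycomm hv (k := v) rfl]; group
    _ = (t * y v * t) * y u := by rw [F.tyt hv]
    _ = t * y v * (t * y u) := by group

/-- phantom: `(t y_u)(t y_v)(t y_{uv}) = 1` -/
theorem zprod (F : Fam ι t z y) {u v : X} (hu : u ∈ Cl z) (hv : v ∈ Cl z) (hw : u * v ∈ Cl z)
    (huv : u * v = v * u)
    (dc : ∀ x, (∀ c, c * u = u * c → c * v = v * c → x * c = c * x) →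
      x = 1 ∨ x = u ∨ x = v ∨ x = u * v)
    (rot : ∃ k, k * u * k⁻¹ = v ∧ k * v * k⁻¹ = u * v)
    (c1 : t * y u * (t * y v) = t * y v * (t * y u))
    (c2 : t * y u * (t * y (u * v)) = t * y (u * v) * (t * y u))
    (c3 : t * y v * (t * y (u * v)) = t * y (u * v) * (t * y v)) :
    t * y u * (t * y v) * (t * y (u * v)) = 1 := by
  have hu2 := F.sq hu
  have hv2 := F.sq hv
  set a := t * y u with ha
  set b := t * y v with hb
  set c := t * y (u * v) with hc
  have sa : a * a = ι u := F.zsq hu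
  have sb : b * b = ι v := F.zsq hv
  have sc : c * c = ι (u * v) := F.zsq hw
  have gsq : a * b * c * (a * b * c) = 1 := by
    calc a * b * c * (a * b * c) = a * b * (c * a) * b * c := by group
      _ = a * (b * a) * c * b * c := by rw [← c2]; group
      _ = a * a * b * (c * b) * c := by rw [← c1]; group
      _ = a * a * (b * b) * (c * c) := by rw [← c3]; group
      _ = 1 := by
        rw [sa, sb, sc, ← map_mul, ← map_mul, show u * v * (u * v) = u * (v * u) * v by group, ← huv,
          show u * (u * v) * v = (u * u) * (v * v) by group, hu2, hv2, one_mul, map_one]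
  have tct : ∀ {u : X}, u ∈ Cl z → t * (t * y u) * t = (t * y u)⁻¹ := by
    intro u hu
    rw [F.zinv hu, ← mul_assoc, F.tt, one_mul]
  have ginv : t * (a * b * c) * t = (a * b * c)⁻¹ := by
    have e : t * (a * b * c) * t = (t * a * t) * (t * b * t) * (t * c * t) := by
      calc t * (a * b * c) * t = t * a * 1 * b * 1 * c * t := by group
        _ = t * a * (t * t) * b * (t * t) * c * t := by rw [F.tt]
        _ = _ := by group
    have ta : t * a * t = a⁻¹ := tct hu
    have tb : t * b * t = b⁻¹ := tct hv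
    have tc : t * c * t = c⁻¹ := tct hw
    rw [e, ta, tb, tc]
    -- `a⁻¹ b⁻¹ c⁻¹ = c⁻¹ b⁻¹ a⁻¹`
    have i1 : a⁻¹ * b⁻¹ = b⁻¹ * a⁻¹ := by rw [← mul_inv_rev, ← mul_inv_rev, c1]
    have i2 : a⁻¹ * c⁻¹ = c⁻¹ * a⁻¹ := by rw [← mul_inv_rev, ← mul_inv_rev, c2]
    have i3 : b⁻¹ * c⁻¹ = c⁻¹ * b⁻¹ := by rw [← mul_inv_rev, ← mul_inv_rev, c3]
    calc a⁻¹ * b⁻¹ * c⁻¹ = b⁻¹ * (a⁻¹ * c⁻¹) := by rw [i1]; group
      _ = (b⁻¹ * c⁻¹) * a⁻¹ := by rw [i2]; group
      _ = (c⁻¹ * b⁻¹) * a⁻¹ := by rw [i3]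
      _ = (a * b * c)⁻¹ := by group
  have ginv' : (a * b * c)⁻¹ = a * b * c := inv_eq_of_mul_eq_one_left gsq
  have gt : a * b * c * t = t * (a * b * c) := by
    rw [ginv'] at ginv
    calc a * b * c * t = t * t * (a * b * c * t) := by rw [F.tt, one_mul]
      _ = t * (t * (a * b * c) * t) := by group
      _ = t * (a * b * c) := by rw [ginv]
  obtain ⟨x, hx, hxc, hxf⟩ := F.spl' gt
  have zc : ∀ {u k : X}, u ∈ Cl z → k * u = u * k → (t * y u) * ι k = ι k * (t * y u) := by
    intro u k hu hk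
    calc t * y u * ι k = t * (y u * ι k) := by group
      _ = t * ι k * y u := by rw [← F.ycomm hu hk]; group
      _ = ι k * (t * y u) := by rw [← F.ct]; group
  have hxx := dc x (fun k hku hkv => hxc k (by
    have a1 : a * ι k = ι k * a := zc hu hku
    have a2 : b * ι k = ι k * b := zc hv hkv
    have a3 : c * ι k = ι k * c := zc hw (by
      calc k * (u * v) = (k * u) * v := by group
        _ = u * (k * v) := by rw [hku]; group
        _ = u * v * k := by rw [hkv]; group)
    calc a * b * c * ι k = a * b * (c * ι k) := by group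
      _ = a * (b * ι k) * c := by rw [a3]; group
      _ = (a * ι k) * b * c := by rw [a2]; group
      _ = ι k * (a * b * c) := by rw [a1]; group))
  obtain ⟨k, hk1, hk2⟩ := rot
  have hk3 : k * (u * v) * k⁻¹ = u := by
    calc k * (u * v) * k⁻¹ = (k * u * k⁻¹) * (k * v * k⁻¹) := by group
      _ = v * (u * v) := by rw [hk1, hk2]
      _ = u := by rw [huv, ← mul_assoc, hv2, one_mul]
  have zk : ∀ {u : X}, u ∈ Cl z → ι k * (t * y u) * (ι k)⁻¹ = t * y (k * u * k⁻¹) := by
    intro u hu
    rw [F.yeq u hu]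
    calc ι k * (t * y u) * (ι k)⁻¹ = (ι k * t) * y u * (ι k)⁻¹ := by group
      _ = t * (ι k * y u * (ι k)⁻¹) := by rw [F.ct]; group
  have hkg : ι k * (a * b * c) * (ι k)⁻¹ = a * b * c := by
    have e1 : ι k * a * (ι k)⁻¹ = b := by rw [ha, zk hu, hk1]
    have e2 : ι k * b * (ι k)⁻¹ = c := by rw [hb, zk hv, hk2]
    have e3 : ι k * c * (ι k)⁻¹ = a := by rw [hc, zk hw, hk3]
    calc ι k * (a * b * c) * (ι k)⁻¹ = (ι k * a * (ι k)⁻¹) * (ι k * b * (ι k)⁻¹) *
          (ι k * c * (ι k)⁻¹) := by group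
      _ = b * (c * a) := by rw [e1, e2, e3, mul_assoc]
      _ = (b * a) * c := by rw [← c2]; group
      _ = a * b * c := by rw [← c1]
  have hkx := hxf k hkg
  have hx1 : x = 1 := by
    have hne : u ≠ 1 := F.ne1 hu
    have hne' : v ≠ 1 := F.ne1 hv
    rcases hxx with h | h | h | h
    · exact h
    · rw [h, hk1] at hkx
      exfalso
      have : u * v ≠ 1 := F.ne1 hw
      apply this
      rw [hkx, hu2]
    · rw [h, hk2] at hkx
      exact absurd (mul_eq_right.1 hkx) hne
    · rw [h, hk3] at hkx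
      exact absurd (mul_eq_left.1 hkx.symm) hne'
  rw [hx1, map_one, mul_one] at hx
  rcases hx with hx | hx
  · exact hx
  · exfalso
    -- `t` would commute with `t y_u`
    have h1 : a * b * c * a = a * (a * b * c) := by
      calc a * b * c * a = a * b * (c * a) := by group
        _ = a * (b * a) * c := by rw [← c2]; group
        _ = a * (a * b * c) := by rw [← c1]; group
    rw [hx, ha] at h1
    have h2 : y u * t = t * y u := by
      calc y u * t = t * t * (y u * t) := by rw [F.tt, one_mul]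
        _ = t * (t * y u * t) := by group
        _ = t * (t * (t * y u)) := by rw [← h1]
        _ = (t * t) * (t * y u) := by group
        _ = t * y u := by rw [F.tt, one_mul]
    exact F.y_not_comm hu h2

/-- **Step 2**: the involutions `y_u`, `u ∈ E - 1`, commute -/
theorem comm (F : Fam ι t z y) {E : Subgroup X} (hE : FactsE z E) {u v : X} (hu : u ∈ E) (hv : v ∈ E)
    (hu1 : u ≠ 1) (hv1 : v ≠ 1) : y u * y v = y v * y u := by
  by_cases huv1 : u = v
  · rw [huv1]
  have hsq : ∀ e ∈ E, e * e = 1 := by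
    intro e he
    by_cases h1 : e = 1
    · rw [h1, one_mul]
    · exact F.sq (hE.EC e he h1)
  have hcomm : ∀ e ∈ E, ∀ f ∈ E, e * f = f * e := by
    intro e he f hf
    have h1 := hsq _ (E.mul_mem he hf)
    calc e * f = e * (e * f * (e * f)) * f := by rw [h1, mul_one]
      _ = (e * e) * (f * e) * (f * f) := by group
      _ = f * e := by rw [hsq e he, hsq f hf, one_mul, mul_one]
  by_contra hno
  -- all pairs are phantoms
  have hph : ∀ a ∈ E, ∀ b ∈ E, a ≠ 1 → b ≠ 1 → a ≠ b → y a * y b * (y a * y b) = ι (a * b) := by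
    intro a ha b hb ha1 hb1 hab
    rcases F.comm_or (hE.EC a ha ha1) (hE.EC b hb hb1) (hcomm a ha b hb) hab
      (hE.dc a ha b hb ha1 hb1 hab) (hE.swap a ha b hb ha1 hb1 hab) with h | h
    · exfalso
      apply hno
      obtain ⟨k, hk1, hk2⟩ := hE.two a ha b hb u hu v hv ha1 hb1 hab hu1 hv1 huv1
      rw [← hk1, ← hk2, F.yeq a (hE.EC a ha ha1), F.yeq b (hE.EC b hb hb1)]
      calc ι k * y a * (ι k)⁻¹ * (ι k * y b * (ι k)⁻¹) = ι k * (y a * y b) * (ι k)⁻¹ := by group
        _ = ι k * (y b * y a) * (ι k)⁻¹ := by rw [h]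
        _ = ι k * y b * (ι k)⁻¹ * (ι k * y a * (ι k)⁻¹) := by group
    · exact h
  have hne : ∀ a ∈ E, ∀ b ∈ E, a ≠ b → a * b ≠ 1 := by
    intro a _ b hb hab h
    apply hab
    calc a = a * (b * b) := by rw [hsq b hb, mul_one]
      _ = (a * b) * b := by group
      _ = b := by rw [h, one_mul]
  -- products
  have hzc : ∀ a ∈ E, ∀ b ∈ E, a ≠ 1 → b ≠ 1 → t * y a * (t * y b) = t * y b * (t * y a) := by
    intro a ha b hb ha1 hb1
    by_cases hab : a = b
    · rw [hab]
    · exact F.zcomm (hE.EC a ha ha1) (hE.EC b hb hb1) (hph a ha b hb ha1 hb1 hab)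
  have hzp : ∀ a ∈ E, ∀ b ∈ E, a ≠ 1 → b ≠ 1 → a ≠ b →
      t * y a * (t * y b) * (t * y (a * b)) = 1 := by
    intro a ha b hb ha1 hb1 hab
    have hab1 := hne a ha b hb hab
    have habE := E.mul_mem ha hb
    exact F.zprod (hE.EC a ha ha1) (hE.EC b hb hb1) (hE.EC _ habE hab1) (hcomm a ha b hb)
      (hE.dc a ha b hb ha1 hb1 hab) (hE.rot a ha b hb ha1 hb1 hab) (hzc a ha b hb ha1 hb1)
      (hzc a ha _ habE ha1 hab1) (hzc b hb _ habE hb1 hab1)
  -- a third element
  obtain ⟨w, hw, hw1, hwu, hwv, hwuv⟩ : ∃ w ∈ E, w ≠ 1 ∧ w ≠ u ∧ w ≠ v ∧ w ≠ u * v := by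
    classical
    by_contra hcon
    push Not at hcon
    have h1 : (E : Set X) ⊆ (({1, u, v, u * v} : Finset X) : Set X) := by
      intro w hw
      by_cases a1 : w = 1
      · simp [a1]
      by_cases a2 : w = u
      · simp [a2]
      by_cases a3 : w = v
      · simp [a3]
      simp [hcon w hw a1 a2 a3]
    have h2 := Set.ncard_le_ncard h1 (Finset.finite_toSet _)
    rw [Set.ncard_coe_finset] at h2
    have h3 : ({1, u, v, u * v} : Finset X).card ≤ 4 := Finset.card_le_four
    have h4 : (E : Set X).ncard = 16 := by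
      rw [← hE.card]; rfl
    omega
  have huv' := hne u hu v hv huv1
  have p1 := hzp u hu v hv hu1 hv1 huv1
  have p2 := hzp v hv w hw hv1 hw1 (Ne.symm hwv)
  have p3 := hzp (u * v) (E.mul_mem hu hv) w hw huv' hw1 (Ne.symm hwuv)
  have p4 := hzp u hu (v * w) (E.mul_mem hv hw) hu1 (hne v hv w hw (Ne.symm hwv)) (by
    intro h
    apply hwuv
    rw [h]
    calc w = (v * v) * w := by rw [hsq v hv, one_mul]
      _ = v * (v * w) := by group
      _ = v * w * v := hcomm v hv _ (E.mul_mem hv hw))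
  rw [mul_assoc u v w] at p3
  set A := t * y u
  set B := t * y v
  set C := t * y w
  set AB := t * y (u * v)
  set BC := t * y (v * w)
  set ABC := t * y (u * (v * w))
  have q1 : AB = (A * B)⁻¹ := (inv_eq_of_mul_eq_one_right p1).symm
  have q2 : BC = (B * C)⁻¹ := (inv_eq_of_mul_eq_one_right p2).symm
  have q3 : AB * C = A * BC := mul_right_cancel (p3.trans p4.symm)
  have hAB : A * B = B * A := hzc u hu v hv hu1 hv1
  have hAC : A * C = C * A := hzc u hu w hw hu1 hw1
  have hBC : B * C = C * B := hzc v hv w hw hv1 hw1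
  rw [q1, q2] at q3
  have q4 : C * (B * C) = A * B * A := by
    have h1 : C = A * B * (A * (B * C)⁻¹) := by rw [← q3]; group
    calc C * (B * C) = A * B * (A * (B * C)⁻¹) * (B * C) := by rw [← h1]
      _ = A * B * A := by group
  have q5 : B * (C * C) = B * (A * A) := by
    calc B * (C * C) = (B * C) * C := by group
      _ = (C * B) * C := by rw [hBC]
      _ = C * (B * C) := mul_assoc _ _ _
      _ = A * B * A := q4
      _ = B * (A * A) := by rw [hAB]; group
  have q6 := mul_left_cancel q5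
  rw [F.zsq (hE.EC w hw hw1), F.zsq (hE.EC u hu hu1)] at q6
  exact hwu (F.inj q6)

end Fam

end Cfsg.Agent.OddHalf.M24
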