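import Cfsg.Agent.OddHalf.M24.Defs
import Cfsg.Agent.OddHalf.D8.Front

/-!
# ODD half, D8, `K = M24`: Step 1 (helper502; text bb #10112)

`exists_fam`: the output `Out` of the front end, `Aut(X) = Inn(X)` and `FactsP` give the family `Fam`.
-/

set_option autoImplicit false

namespace Cfsg.Agent.OddHalf.M24.StepOne

open Subgroup Cfsg.Agent.OddHalf.D8.Front Cfsg.Agent.OddHalf.D8.GlueE

section Abstract

variable {X G : Type*} [Group X] [Group G] {ι : X →* G} {t : G} {z : X}

/-- the family from one member -/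
theorem fam_of_one (h : Amb ι t) (zz : z * z = 1) (z1 : z ≠ 1) (tz : ∀ g, g * t * g⁻¹ ≠ ι z) {y : G}
    (ysq : y * y = 1) (yt : y * t * y⁻¹ = t * ι z) (yc : ∀ c, c * z = z * c → y * ι c = ι c * y) :
    ∃ y : X → G, Fam ι t z y := by
  classical
  let f : X → G := fun u => if h : ∃ k, k * z * k⁻¹ = u then ι h.choose * y * (ι h.choose)⁻¹ else 1
  have hf : ∀ k, f (k * z * k⁻¹) = ι k * y * (ι k)⁻¹ := by
    intro k
    have h1 : ∃ k', k' * z * k'⁻¹ = k * z * k⁻¹ := ⟨k, rfl⟩
    have h2 : f (k * z * k⁻¹) = ι h1.choose * y * (ι h1.choose)⁻¹ := dif_pos h1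
    rw [h2]
    have h3 := h1.choose_spec
    set k' := h1.choose
    have h4 : (k⁻¹ * k') * z = z * (k⁻¹ * k') := by
      calc (k⁻¹ * k') * z = k⁻¹ * (k' * z * k'⁻¹) * k' := by group
        _ = k⁻¹ * (k * z * k⁻¹) * k' := by rw [h3]
        _ = z * (k⁻¹ * k') := by group
    have h5 := yc _ h4
    have h6 : ι k' = ι k * ι (k⁻¹ * k') := by rw [← map_mul]; congr 1; group
    rw [h6]
    calc ι k * ι (k⁻¹ * k') * y * (ι k * ι (k⁻¹ * k'))⁻¹
        = ι k * (ι (k⁻¹ * k') * y) * (ι (k⁻¹ * k'))⁻¹ * (ι k)⁻¹ := by group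
      _ = ι k * (y * ι (k⁻¹ * k')) * (ι (k⁻¹ * k'))⁻¹ * (ι k)⁻¹ := by rw [h5]
      _ = ι k * y * (ι k)⁻¹ := by group
  refine ⟨f, { h with zz := zz, z1 := z1, tz := tz, ysq := ?_, yt := ?_, yeq := ?_ }⟩
  · rintro _ ⟨k, rfl⟩
    rw [hf]
    calc ι k * y * (ι k)⁻¹ * (ι k * y * (ι k)⁻¹) = ι k * (y * y) * (ι k)⁻¹ := by group
      _ = 1 := by rw [ysq]; group
  · rintro _ ⟨k, rfl⟩
    rw [hf, map_mul, map_mul, map_inv]
    have h1 := h.ct k
    have h2 : (ι k)⁻¹ * t * ι k = t := by rw [mul_assoc, ← h1]; group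
    calc ι k * y * (ι k)⁻¹ * t * (ι k * y * (ι k)⁻¹)⁻¹
        = ι k * (y * ((ι k)⁻¹ * t * ι k) * y⁻¹) * (ι k)⁻¹ := by group
      _ = (ι k * t) * ι z * (ι k)⁻¹ := by rw [h2, yt]; group
      _ = t * (ι k * ι z * (ι k)⁻¹) := by rw [h1]; group
  · rintro _ ⟨k', rfl⟩ k
    have h1 : k * (k' * z * k'⁻¹) * k⁻¹ = (k * k') * z * (k * k')⁻¹ := by group
    rw [h1, hf, hf, map_mul]
    group

/-- **Step 1**: an involution `y` that centralises `ι(C_X(z))`, `t ↦ t z` under `y` -/
theorem exists_one (h : Amb ι t) {E E₂ : Subgroup X} (F : FactsP z E E₂) {x : G}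
    (xt : x * t * x⁻¹ = t * ι z) (xz : x * ι z * x⁻¹ = ι z)
    (xP : ∀ c, c * z = z * c → ∃ c', c' * z = z * c' ∧ x * ι c * x⁻¹ = ι c')
    (xP' : ∀ c, c * z = z * c → ∃ c', c' * z = z * c' ∧ x⁻¹ * ι c * x = ι c') :
    ∃ y : G, y * y = 1 ∧ y * t * y⁻¹ = t * ι z ∧ ∀ c, c * z = z * c → y * ι c = ι c * y := by
  have hzz : ι z * ι z = 1 := by rw [← map_mul, F.zz, map_one]
  have hz1 : ι z ≠ 1 := fun e => F.z1 (h.inj (by rw [e, map_one]))
  have hmem : ∀ {c : X}, c ∈ centralizer ({z} : Set X) ↔ c * z = z * c := mem_centralizer_singleton_iff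
  -- the automorphism `β`
  have fw : ∀ c : centralizer ({z} : Set X), ∃ c' : centralizer ({z} : Set X),
      x * ι (c : X) * x⁻¹ = ι (c' : X) := by
    intro c
    obtain ⟨c', h1, h2⟩ := xP c (hmem.1 c.2)
    exact ⟨⟨c', hmem.2 h1⟩, h2⟩
  have bw : ∀ c : centralizer ({z} : Set X), ∃ c' : centralizer ({z} : Set X),
      x⁻¹ * ι (c : X) * x = ι (c' : X) := by
    intro c
    obtain ⟨c', h1, h2⟩ := xP' c (hmem.1 c.2)
    exact ⟨⟨c', hmem.2 h1⟩, h2⟩
  choose f hf using fw
  choose f' hf' using bw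
  let β : MulAut (centralizer ({z} : Set X)) :=
    { toFun := f
      invFun := f'
      left_inv := by
        intro c
        apply Subtype.ext
        apply h.inj
        rw [← hf', ← hf]
        group
      right_inv := by
        intro c
        apply Subtype.ext
        apply h.inj
        rw [← hf, ← hf']
        group
      map_mul' := by
        intro c d
        apply Subtype.ext
        apply h.inj
        rw [← hf, Subgroup.coe_mul, Subgroup.coe_mul, map_mul, map_mul, ← hf, ← hf]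
        group }
  have hβ : ∀ c : centralizer ({z} : Set X), x * ι (c : X) * x⁻¹ = ι (β c : X) := hf
  -- `x⁻¹ t x = t z`
  have xt' : x⁻¹ * t * x = t * ι z := by
    calc x⁻¹ * t * x = x⁻¹ * (t * ι z * ι z) * x := by
          rw [mul_assoc t, hzz, mul_one]
      _ = x⁻¹ * ((x * t * x⁻¹) * (x * ι z * x⁻¹)) * x := by rw [xt, xz]
      _ = t * ι z := by group
  have xz' : x⁻¹ * ι z * x = ι z := by
    calc x⁻¹ * ι z * x = x⁻¹ * (x * ι z * x⁻¹) * x := by rw [xz]
      _ = ι z := by group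
  rcases F.autE β with hE | ⟨hE, hE'⟩
  · -- `β` is inner
    obtain ⟨p, hp⟩ := F.autI β hE
    have hpz : (p : X) * z = z * p := hmem.1 p.2
    have hpz' : (ι (p : X))⁻¹ * ι z * ι (p : X) = ι z := by
      rw [mul_assoc, ← map_mul, ← hpz, map_mul]; group
    have hpt : (ι (p : X))⁻¹ * t * ι (p : X) = t := by
      rw [mul_assoc, ← h.ct]; group
    set x' : G := (ι (p : X))⁻¹ * x with hx'
    have x't : x' * t * x'⁻¹ = t * ι z := by
      calc x' * t * x'⁻¹ = (ι (p : X))⁻¹ * (x * t * x⁻¹) * ι (p : X) := by rw [hx']; group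
        _ = ((ι (p : X))⁻¹ * t * ι (p : X)) * ((ι (p : X))⁻¹ * ι z * ι (p : X)) := by rw [xt]; group
        _ = t * ι z := by rw [hpt, hpz']
    have x'c : ∀ c, c * z = z * c → x' * ι c = ι c * x' := by
      intro c hc
      have h1 := hβ ⟨c, hmem.2 hc⟩
      rw [hp, MulAut.conj_apply, Subgroup.coe_mul, Subgroup.coe_mul, map_mul, map_mul,
        InvMemClass.coe_inv, map_inv] at h1
      calc x' * ι c = (ι (p : X))⁻¹ * (x * ι c * x⁻¹) * x := by rw [hx']; group
        _ = (ι (p : X))⁻¹ * (ι (p : X) * ι c * (ι (p : X))⁻¹) * x := by rw [h1]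
        _ = ι c * x' := by rw [hx']; group
    have x'z : x' * ι z * x'⁻¹ = ι z := by rw [x'c z rfl]; group
    have x'tz : x' * (t * ι z) * x'⁻¹ = t := by
      calc x' * (t * ι z) * x'⁻¹ = (x' * t * x'⁻¹) * (x' * ι z * x'⁻¹) := by group
        _ = t := by rw [x't, x'z, mul_assoc, hzz, mul_one]
    have h1 : (x' * x') * t = t * (x' * x') := by
      calc (x' * x') * t = x' * (x' * t * x'⁻¹) * x' := by group
        _ = (x' * (t * ι z) * x'⁻¹) * (x' * x') := by rw [x't]; group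
        _ = t * (x' * x') := by rw [x'tz]
    obtain ⟨w, hw⟩ := h.spl _ h1
    have hwc : ∀ c, c * z = z * c → c * w = w * c := by
      intro c hc
      have h2 : (x' * x') * ι c = ι c * (x' * x') := by
        calc (x' * x') * ι c = x' * (x' * ι c) := by group
          _ = (x' * ι c) * x' := by rw [x'c c hc]; exact (mul_assoc _ _ _).symm.trans (by rw [x'c c hc])
          _ = ι c * (x' * x') := by rw [x'c c hc]; group
      apply h.inj
      rw [map_mul, map_mul]
      rcases hw with hw | hw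
      · rw [hw] at h2
        exact h2.symm
      · rw [hw] at h2
        have h3 := h.ct c
        have h4 : t * (ι c * ι w) = t * (ι w * ι c) := by
          calc t * (ι c * ι w) = (ι c * t) * ι w := by rw [h3]; group
            _ = ι c * (t * ι w) := by group
            _ = t * ι w * ι c := h2.symm
            _ = t * (ι w * ι c) := by group
        exact mul_left_cancel h4
    have hwz := F.cP w (hwc z rfl).symm hwc
    have hcomm : x' * (x' * x') * x'⁻¹ = x' * x' := by group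
    have htne : t * ι z ≠ t := fun e => hz1 (mul_left_cancel (by rw [e, mul_one]))
    have key : x' * x' = 1 ∨ x' * x' = ι z := by
      rcases hw with hw | hw
      · rcases hwz with rfl | rfl
        · left; rw [hw, map_one]
        · right; exact hw
      · exfalso
        rcases hwz with rfl | rfl
        · rw [map_one, mul_one] at hw
          rw [hw, x't] at hcomm
          exact htne hcomm
        · rw [hw, x'tz] at hcomm
          exact htne hcomm.symm
    rcases key with key | key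
    · exact ⟨x', key, x't, x'c⟩
    · refine ⟨t * x', ?_, ?_, ?_⟩
      · calc t * x' * (t * x') = t * (x' * t * x'⁻¹) * (x' * x') := by group
          _ = (t * t) * (ι z * ι z) := by rw [x't, key]; group
          _ = 1 := by rw [h.tt, hzz, mul_one]
      · have h2 := h.ct z
        have h3 : t⁻¹ = t := inv_eq_of_mul_eq_one_left h.tt
        calc t * x' * t * (t * x')⁻¹ = t * (x' * t * x'⁻¹) * t⁻¹ := by group
          _ = t * (t * (ι z * t)) := by rw [x't, h3]; group
          _ = t * (t * t * ι z) := by rw [h2]; group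
          _ = t * ι z := by rw [h.tt, one_mul]
      · intro c hc
        calc t * x' * ι c = t * (x' * ι c) := by group
          _ = (t * ι c) * x' := by rw [x'c c hc]; group
          _ = ι c * (t * x') := by rw [← h.ct c]; group
  · -- `β` swaps `E`, `E₂`
    exfalso
    obtain ⟨b₀, hb₀E, hb₀1, hb₀z⟩ := F.ex
    have hβ1 : ∀ c : centralizer ({z} : Set X), (β c : X) = 1 → (c : X) = 1 := by
      intro c hc
      have h1 : β c = 1 := Subtype.ext hc
      have h2 : c = 1 := β.injective (by rw [h1, map_one])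
      rw [h2]; rfl
    have hβz' : β ⟨z, hmem.2 rfl⟩ = ⟨z, hmem.2 rfl⟩ := by
      apply Subtype.ext
      apply h.inj
      rw [← hβ]
      exact xz
    have hβz : ∀ c : centralizer ({z} : Set X), (β c : X) = z → (c : X) = z := by
      intro c hc
      have h1 : β c = ⟨z, hmem.2 rfl⟩ := Subtype.ext hc
      have h2 : c = ⟨z, hmem.2 rfl⟩ := β.injective (by rw [h1, hβz'])
      rw [h2]
    let b₀' : centralizer ({z} : Set X) := ⟨b₀, hmem.2 (F.cE _ hb₀E)⟩
    let c := β b₀'
    let b := β c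
    have hcE : (c : X) ∈ E₂ := hE b₀' hb₀E
    have hbE : (b : X) ∈ E := hE' c hcE
    have hc1 : (c : X) ≠ 1 := fun e => hb₀1 (hβ1 b₀' e)
    have hcz : (c : X) ≠ z := fun e => hb₀z (hβz b₀' e)
    have hb1 : (b : X) ≠ 1 := fun e => hc1 (hβ1 c e)
    have hbz : (b : X) ≠ z := fun e => hcz (hβz c e)
    have hbE₂ : ((β b : centralizer ({z} : Set X)) : X) ∈ E₂ := hE b hbE
    have hxc : x * ι (c : X) * x⁻¹ = ι (b : X) := hβ c
    have hxb : x * ι (b : X) * x⁻¹ = ι (β b : X) := hβ b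
    obtain ⟨k₂, hk₂z, hk₂c⟩ := F.rot₂ _ hcE hc1 hcz
    obtain ⟨k, hkz, hkb⟩ := F.rot _ hbE hb1 hbz
    have hbcz : (b : X) * z = z * b := F.cE _ hbE
    -- images in `G`
    set Z := ι z with hZ
    set B := ι (b : X) with hB
    set C := ι (c : X) with hC
    set A := ι k with hA
    set A₂ := ι k₂ with hA₂
    have BZ : B * Z = Z * B := by rw [hB, hZ, ← map_mul, hbcz, map_mul]
    have BB : B * B = 1 := by
      have h1 : (b : X) * b = 1 := by
        rw [← hkz]
        calc k * z * k⁻¹ * (k * z * k⁻¹) = k * (z * z) * k⁻¹ := by group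
          _ = 1 := by rw [F.zz]; group
      rw [hB, ← map_mul, h1, map_one]
    have AZ : A * Z * A⁻¹ = B := by rw [hA, hZ, hB, ← hkz, map_mul, map_mul, map_inv]
    have AB : A * B * A⁻¹ = Z * B := by
      rw [hA, hZ, hB, ← map_mul ι z, ← hkb, map_mul, map_mul, map_inv]
    have A₂Z : A₂ * Z * A₂⁻¹ = C := by rw [hA₂, hZ, hC, ← hk₂z, map_mul, map_mul, map_inv]
    have A₂C : A₂ * C * A₂⁻¹ = Z * C := by
      rw [hA₂, hZ, hC, ← map_mul ι z, ← hk₂c, map_mul, map_mul, map_inv]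
    have At : A * t * A⁻¹ = t := by rw [hA, h.ct, mul_inv_cancel_right]
    have A₂t : A₂ * t * A₂⁻¹ = t := by rw [hA₂, h.ct, mul_inv_cancel_right]
    have xZB : x * (Z * C) * x⁻¹ = Z * B := by
      calc x * (Z * C) * x⁻¹ = (x * Z * x⁻¹) * (x * C * x⁻¹) := by group
        _ = Z * B := by rw [xz, hxc]
    -- `H = x A₂ x⁻¹`
    set H : G := x * A₂ * x⁻¹ with hH
    have HZ : H * Z * H⁻¹ = B := by
      calc H * Z * H⁻¹ = x * (A₂ * (x⁻¹ * Z * x) * A₂⁻¹) * x⁻¹ := by rw [hH]; group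
        _ = B := by rw [xz', A₂Z, hxc]
    have HB : H * B * H⁻¹ = Z * B := by
      calc H * B * H⁻¹ = H * (x * C * x⁻¹) * H⁻¹ := by rw [hxc]
        _ = x * (A₂ * C * A₂⁻¹) * x⁻¹ := by rw [hH]; group
        _ = Z * B := by rw [A₂C, xZB]
    have Ht : H * t * H⁻¹ = t * (Z * B) := by
      calc H * t * H⁻¹ = x * (A₂ * (x⁻¹ * t * x) * A₂⁻¹) * x⁻¹ := by rw [hH]; group
        _ = x * ((A₂ * t * A₂⁻¹) * (A₂ * Z * A₂⁻¹)) * x⁻¹ := by rw [xt']; group
        _ = (x * t * x⁻¹) * (x * C * x⁻¹) := by rw [A₂t, A₂Z]; group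
        _ = t * (Z * B) := by rw [xt, hxc]; group
    -- `A⁻¹`
    have A'B : A⁻¹ * B * A = Z := by rw [← AZ]; group
    have A'Z : A⁻¹ * Z * A = Z * B := by
      calc A⁻¹ * Z * A = A⁻¹ * (Z * B * B) * A := by rw [mul_assoc Z, BB, mul_one]
        _ = A⁻¹ * ((A * B * A⁻¹) * (A * Z * A⁻¹)) * A := by rw [AB, AZ]
        _ = B * Z := by group
        _ = Z * B := BZ
    have A't : A⁻¹ * t * A = t := by rw [mul_assoc, hA, ← h.ct, inv_mul_cancel_left]
    -- `M' = H A⁻¹`
    have M'Z : (H * A⁻¹) * Z * (H * A⁻¹)⁻¹ = Z := by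
      calc (H * A⁻¹) * Z * (H * A⁻¹)⁻¹ = H * (A⁻¹ * Z * A) * H⁻¹ := by group
        _ = (H * Z * H⁻¹) * (H * B * H⁻¹) := by rw [A'Z]; group
        _ = (B * Z) * B := by rw [HZ, HB]; group
        _ = Z * (B * B) := by rw [BZ]; group
        _ = Z := by rw [BB, mul_one]
    have M'B : (H * A⁻¹) * B * (H * A⁻¹)⁻¹ = B := by
      calc (H * A⁻¹) * B * (H * A⁻¹)⁻¹ = H * (A⁻¹ * B * A) * H⁻¹ := by group
        _ = B := by rw [A'B, HZ]
    have M't : (H * A⁻¹) * t * (H * A⁻¹)⁻¹ = t * (Z * B) := by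
      calc (H * A⁻¹) * t * (H * A⁻¹)⁻¹ = H * (A⁻¹ * t * A) * H⁻¹ := by group
        _ = t * (Z * B) := by rw [A't, Ht]
    -- `M = A M' A⁻¹`
    set M : G := A * (H * A⁻¹) * A⁻¹ with hM
    have Mt : M * t * M⁻¹ = t * Z := by
      calc M * t * M⁻¹ = A * ((H * A⁻¹) * (A⁻¹ * t * A) * (H * A⁻¹)⁻¹) * A⁻¹ := by
            rw [hM]; simp only [mul_assoc, mul_inv_rev, inv_inv, inv_mul_cancel_left]
        _ = (A * t * A⁻¹) * ((A * Z * A⁻¹) * (A * B * A⁻¹)) := by rw [A't, M't]; group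
        _ = t * ((B * Z) * B) := by rw [At, AZ, AB]; group
        _ = t * Z := by rw [BZ, mul_assoc Z, BB, mul_one]
    have MB : M * B * M⁻¹ = B := by
      calc M * B * M⁻¹ = A * ((H * A⁻¹) * (A⁻¹ * B * A) * (H * A⁻¹)⁻¹) * A⁻¹ := by
            rw [hM]; simp only [mul_assoc, mul_inv_rev, inv_inv, inv_mul_cancel_left]
        _ = B := by rw [A'B, M'Z, AZ]
    have MZ : M * Z * M⁻¹ = Z := by
      calc M * Z * M⁻¹ = A * ((H * A⁻¹) * (A⁻¹ * Z * A) * (H * A⁻¹)⁻¹) * A⁻¹ := by
            rw [hM]; simp only [mul_assoc, mul_inv_rev, inv_inv, inv_mul_cancel_left]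
        _ = A * (((H * A⁻¹) * Z * (H * A⁻¹)⁻¹) * ((H * A⁻¹) * B * (H * A⁻¹)⁻¹)) * A⁻¹ := by
            rw [A'Z]; group
        _ = (A * Z * A⁻¹) * (A * B * A⁻¹) := by rw [M'Z, M'B]; group
        _ = (B * Z) * B := by rw [AZ, AB]; group
        _ = Z := by rw [BZ, mul_assoc, BB, mul_one]
    have M't2 : M⁻¹ * t * M = t * Z := by
      calc M⁻¹ * t * M = M⁻¹ * (t * Z * Z) * M := by rw [mul_assoc t, hzz, mul_one]
        _ = M⁻¹ * ((M * t * M⁻¹) * (M * Z * M⁻¹)) * M := by rw [Mt, MZ]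
        _ = t * Z := by group
    have M'Z2 : M⁻¹ * Z * M = Z := by
      calc M⁻¹ * Z * M = M⁻¹ * (M * Z * M⁻¹) * M := by rw [MZ]
        _ = Z := by group
    have M'B2 : M⁻¹ * B * M = B := by
      calc M⁻¹ * B * M = M⁻¹ * (M * B * M⁻¹) * M := by rw [MB]
        _ = B := by group
    -- `x M⁻¹` centralises `t` and `z`
    have Nt : (x * M⁻¹) * t = t * (x * M⁻¹) := by
      calc (x * M⁻¹) * t = x * (M⁻¹ * t * M) * M⁻¹ := by group
        _ = ((x * t * x⁻¹) * (x * Z * x⁻¹)) * (x * M⁻¹) := by rw [M't2]; group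
        _ = t * (Z * Z) * (x * M⁻¹) := by rw [xt, xz]; group
        _ = t * (x * M⁻¹) := by rw [hzz, mul_one]
    have NZ : (x * M⁻¹) * Z = Z * (x * M⁻¹) := by
      calc (x * M⁻¹) * Z = x * (M⁻¹ * Z * M) * M⁻¹ := by group
        _ = (x * Z * x⁻¹) * (x * M⁻¹) := by rw [M'Z2]; group
        _ = Z * (x * M⁻¹) := by rw [xz]
    have NB : (x * M⁻¹) * B * (x * M⁻¹)⁻¹ = ι (β b : X) := by
      calc (x * M⁻¹) * B * (x * M⁻¹)⁻¹ = x * (M⁻¹ * B * M) * x⁻¹ := by group
        _ = ι (β b : X) := by rw [M'B2, hxb]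
    obtain ⟨p, hp⟩ := h.spl _ Nt
    have hpz : p * z = z * p := by
      apply h.inj
      rw [map_mul, map_mul]
      rcases hp with hp | hp
      · rw [hp] at NZ; exact NZ
      · rw [hp] at NZ
        have h3 := h.ct z
        have h4 : t * (ι p * ι z) = t * (ι z * ι p) := by
          calc t * (ι p * ι z) = t * ι p * ι z := by group
            _ = ι z * (t * ι p) := NZ
            _ = (ι z * t) * ι p := by group
            _ = t * (ι z * ι p) := by rw [h3]; group
        exact mul_left_cancel h4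
    have hpb : p * b * p⁻¹ = (β b : X) := by
      apply h.inj
      rw [map_mul, map_mul, map_inv, ← NB]
      rcases hp with hp | hp
      · rw [hp]
      · rw [hp]
        have h5 : t * (ι p * ι (b : X) * (ι p)⁻¹) = (ι p * ι (b : X) * (ι p)⁻¹) * t := by
          have := h.ct (p * b * p⁻¹)
          rw [map_mul, map_mul, map_inv] at this
          exact this.symm
        calc ι p * ι (b : X) * (ι p)⁻¹ = (ι p * ι (b : X) * (ι p)⁻¹) * t * t⁻¹ := by group
          _ = t * (ι p * ι (b : X) * (ι p)⁻¹) * t⁻¹ := by rw [h5]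
          _ = t * ι p * B * (t * ι p)⁻¹ := by rw [hB]; group
    have hfin := F.inf (β b : X) (by rw [← hpb]; exact F.nE p hpz _ hbE) hbE₂
    rcases hfin with e | e
    · exact hb1 (hβ1 b e)
    · exact hbz (hβz b e)

end Abstract

section Main

universe u v

variable {X : Type v} {G : Type u} [Group X] [Group G] {K : Subgroup G} {t q : G} {z : X}

/-- all automorphisms of a group isomorphic to `X` are inner -/
theorem inner_of_equiv {K : Type*} [Group K] (e : X ≃* K)
    (inn : ∀ α : MulAut X, ∃ k, α = MulAut.conj k) (α : MulAut K) : ∃ k, α = MulAut.conj k := by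
  obtain ⟨k, hk⟩ := inn ((e.trans α).trans e.symm)
  refine ⟨e k, ?_⟩
  ext y
  have h1 := congrArg (fun f : MulAut X => f (e.symm y)) hk
  have h2 : e.symm (α (e (e.symm y))) = k * e.symm y * k⁻¹ := h1
  rw [e.apply_symm_apply] at h2
  have h3 := congrArg e h2
  rw [e.apply_symm_apply] at h3
  rw [h3]
  simp

/-- `C_G(t) = ⟨t⟩ × K` -/
theorem amb_of_start (st : Front.FE.Start K t q) (Q2 : ∀ y ∈ zpowers q, y = 1 ∨ y = t) (e : X ≃* K)
    (inn : ∀ α : MulAut X, ∃ k, α = MulAut.conj k) : Amb (K.subtype.comp e.toMonoidHom) t where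
  inj := K.subtype_injective.comp e.injective
  tt := st.tt
  tι := by
    intro x h
    apply st.t1
    refine st.cen t ?_ fun y hy => st.Kt y hy
    rw [← h]
    exact (e x).2
  ct x := st.Kt _ (e x).2
  spl := by
    intro g hg
    obtain ⟨k, hk⟩ := inner_of_equiv e inn (K.normalizerMonoidHom ⟨g, st.nK g hg⟩)
    have h2 := exists_of_conj (st.nK g hg) hk
    have hkt := st.Kt (k : G) k.2
    have h3 : (k : G)⁻¹ * g ∈ zpowers q := by
      apply st.cK
      · have h4 := st.Kt (k : G)⁻¹ (K.inv_mem k.2)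
        calc (k : G)⁻¹ * g * t = (k : G)⁻¹ * (g * t) := by group
          _ = ((k : G)⁻¹ * t) * g := by rw [hg]; group
          _ = t * ((k : G)⁻¹ * g) := by rw [h4]; group
      · exact h2
    refine ⟨e.symm k, ?_⟩
    have h5 : (K.subtype.comp e.toMonoidHom) (e.symm k) = (k : G) := by
      show ((e (e.symm k) : K) : G) = k
      rw [e.apply_symm_apply]
    rw [h5]
    rcases Q2 _ h3 with h | h
    · left
      exact (inv_mul_eq_one.1 h).symm
    · right
      rw [← hkt, ← h]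
      group

/-- **Step 1** of the row `M24`. -/
theorem exists_fam {P : Subgroup K} {e : X ≃* K} (o : Out K t q (e z) P)
    (hP : ∀ x : K, x * e z = e z * x → x ∈ P) (inn : ∀ α : MulAut X, ∃ k, α = MulAut.conj k)
    {E E₂ : Subgroup X} (F : FactsP z E E₂) :
    ∃ y, Fam (K.subtype.comp e.toMonoidHom) t z y := by
  have hA := amb_of_start o.emb.st o.Q2 e inn
  set ι := K.subtype.comp e.toMonoidHom with hι
  have hιe : ∀ x, ι x = ((e x : K) : G) := fun _ => rfl
  obtain ⟨x, -, hxt, hxz⟩ := o.swap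
  have hmem : ∀ c, c * z = z * c → ι c ∈ P.map K.subtype := by
    intro c hc
    refine ⟨e c, hP _ ?_, rfl⟩
    rw [← map_mul, hc, map_mul]
  have hback : ∀ g, g ∈ P.map K.subtype → ∃ c', c' * z = z * c' ∧ g = ι c' := by
    rintro _ ⟨p, hp, rfl⟩
    refine ⟨e.symm p, ?_, ?_⟩
    · apply e.injective
      rw [map_mul, map_mul, e.apply_symm_apply]
      exact o.emb.sh.cen p hp
    · rw [hιe, e.apply_symm_apply]
      rfl
  obtain ⟨y, h1, h2, h3⟩ := exists_one hA F hxt hxz
    (fun c hc => hback _ ((o.emb.conj_P_swap hxt hxz).1 (hmem c hc)))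
    (fun c hc => hback _ ((o.emb.conj_P_swap hxt hxz).2 (by
      have e1 : x * (x⁻¹ * ι c * x) * x⁻¹ = ι c := by group
      rw [e1]
      exact hmem c hc)))
  exact fam_of_one hA F.zz F.z1 o.ne h1 h2 h3

end Main

end Cfsg.Agent.OddHalf.M24.StepOne
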