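import Cfsg.Agent.OddHalf.M24.Big
import Cfsg.Agent.OddHalf.M24.StepOne
import Cfsg.Agent.OddHalf.D8.SignKill
import Cfsg.Agent.OddHalf.D8.MainE
import Cfsg.Agent.OddHalf.D8.SheetMap

/-!
# ODD half, D8: the row `K = M24` from the facts about the group `M24` (helper785)

`kill`: the sign kill (helper121) applied to the doubled group `Q* = E* V*`. `row_of`: the row.
-/

set_option autoImplicit false

namespace Cfsg.Agent.OddHalf.M24

open Subgroup Cfsg Cfsg.Agent.OddHalf.D8 Cfsg.Agent.OddHalf.D8.Front Cfsg.Agent.OddHalf.D8.GlueE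
  Cfsg.Agent.OddHalf.D8.Sheet Cfsg.Agent.OddHalf.Front.FE

universe u

/-- facts about `R/Q`, `R = N_X(Q)` -/
structure FactsL {X : Type*} [Group X] (Q : Subgroup X) : Prop where
  good : ∃ (L0 : Type) (_ : Group L0) (ρ : normalizer (Q : Set X) →* L0), Function.Surjective ρ ∧
    (∀ r, ρ r = 1 ↔ (r : X) ∈ Q) ∧ SignKill.GoodL L0
  odd : Odd (normalizer (Q : Set X)).index

/-- facts about a Sylow 2-subgroup and `C_X(z)` -/
structure FactsS {X : Type*} [Group X] (z : X) : Prop where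
  syl : ∃ S : Sylow 2 X, z ∈ S ∧ (∀ x ∈ S, x * z = z * x) ∧
    ∀ y ∈ S, (∀ x ∈ S, x * y = y * x) → y = 1 ∨ y = z
  perf : ⁅centralizer ({z} : Set X), centralizer ({z} : Set X)⁆ = centralizer ({z} : Set X)

/-- all facts about `M24` -/
structure All (X : Type*) [Group X] : Prop where
  ex : ∃ (z : X) (E E₂ E' V : Subgroup X) (r s w w' : X), FactsP z E E₂ ∧ FactsE z E ∧
    FactsQ z E E' V r s w w' ∧ FactsL (E ⊔ V) ∧ FactsS z
  inn : ∀ α : MulAut X, ∃ k, α = MulAut.conj k

/-- **the kill** -/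
theorem kill {X G : Type*} [Group X] [Group G] [Finite G] {ι : X →* G} {t : G} {z : X} {y : X → G}
    {E E' V : Subgroup X} {r s w w' : X} (F : Fam ι t z y) (fE : FactsE z E)
    (fQ : FactsQ z E E' V r s w w') (fL : FactsL (E ⊔ V)) : ∃ f : G →* ℤˣ, f t = -1 := by
  have hfin : Finite X := Finite.of_injective ι F.inj
  have B := big F fE fQ
  obtain ⟨L0, _, ρ, hρ, hker, hL⟩ := fL.good
  have hnor : ∀ k : X, (∀ q ∈ E ⊔ V, k * q * k⁻¹ ∈ E ⊔ V) ↔
      k ∈ normalizer ((E ⊔ V : Subgroup X) : Set X) := by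
    intro k
    exact ⟨fun h => mem_normalizer_fintype h, fun h q hq => (mem_normalizer_iff.1 h q).1 hq⟩
  have hwn : ∀ {w : X}, y w ∈ normalizer (MM ι y E E' : Set G) → w ∈ Cl z →
      w ∈ normalizer ((E ⊔ V : Subgroup X) : Set X) := by
    intro w hw hC
    rw [← hnor, ← B.nor]
    have h1 : ι w = t⁻¹ * (y w * t * (y w)⁻¹) := by rw [F.yt w hC]; group
    rw [h1]
    exact mul_mem (inv_mem B.tM) (mul_mem (mul_mem hw B.tM) (inv_mem hw))
  have hwC := fQ.tvw.wC
  have hw'C := fQ.tvw'.wC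
  refine SignKill.main ι F.inj t F.tt F.ct F.tι F.spl (MM ι y E E') (E ⊔ V)
    (normalizer ((E ⊔ V : Subgroup X) : Set X)) B.tM ?_ B.le ?_ ?_ ρ hρ hker hL fL.odd w w'
    (hwn B.yw hwC) (hwn B.yw' hw'C) (F.sq hwC) (F.sq hw'C) fQ.wQ fQ.w'Q fQ.ww'Q fQ.ww' ?_
    (y w) (y w') B.yw B.yw' (F.yt w hwC) (F.ycomm hwC rfl).symm (F.ycomm hwC fQ.ww'.symm).symm
    (F.yt w' hw'C) (F.ycomm hw'C fQ.ww').symm (F.ycomm hw'C rfl).symm
  · intro m hm h
    obtain ⟨q, hq, e⟩ := B.cen m hm h
    exact ⟨q, hq, e.symm⟩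
  · intro m hm h
    exact B.inv m hm h
  · intro k
    rw [B.nor, hnor]
  · intro h
    obtain ⟨g, hg⟩ := isConj_iff.1 h
    obtain ⟨k, hk⟩ := hwC
    apply F.tz ((ι k)⁻¹ * g)
    calc (ι k)⁻¹ * g * t * ((ι k)⁻¹ * g)⁻¹ = (ι k)⁻¹ * (g * t * g⁻¹) * ι k := by group
      _ = ι z := by rw [hg, ← hk, map_mul, map_mul, map_inv]; group

/-- **the row `K = M24`** from the facts -/
theorem row_of (h : All Cfsg.M24) : Rows.Row.{u} (fun K _ => Spor.IsoM24 K) := by
  intro G _ C K S hcyc hK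
  have hfin := C.fin
  obtain ⟨e'⟩ := hK
  set e : Cfsg.M24 ≃* K := e'.symm with he
  obtain ⟨⟨z, E, E₂, E', V, r, s, w, w', fP, fE, fQ, fL, fS⟩, inn⟩ := h
  -- automorphisms of `K` are inner
  have innK : ∀ α : MulAut K, ∃ k, α = MulAut.conj k := by
    intro α
    obtain ⟨k, hk⟩ := inn ((e.trans α).trans e.symm)
    refine ⟨e k, ?_⟩
    ext1 x
    have h1 := DFunLike.congr_fun hk (e.symm x)
    have h2 : e.symm (α (e (e.symm x))) = k * e.symm x * k⁻¹ := h1
    rw [e.apply_symm_apply] at h2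
    have h3 := congrArg e h2
    rw [e.apply_symm_apply, map_mul, map_mul, map_inv, e.apply_symm_apply] at h3
    rw [h3, MulAut.conj_apply]
  have hrange : (MulAut.conj : K →* MulAut K).range = ⊤ := by
    rw [eq_top_iff]
    intro α _
    obtain ⟨k, hk⟩ := innK α
    exact ⟨k, hk.symm⟩
  have hz1 : e z ≠ 1 := fun e1 => fP.z1 (e.injective (by rw [e1, map_one]))
  set P : Subgroup K := (centralizer ({z} : Set Cfsg.M24)).map e.toMonoidHom with hP
  have hPc : P = centralizer ({e z} : Set K) := (SheetMap.centralizer_map e z).symm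
  have hB : Basic (e z) P :=
    { zz := by rw [← map_mul, fP.zz, map_one]
      z1 := hz1
      syl := SheetMap.syl_map e fS.syl
      zP := ⟨z, mem_centralizer_singleton_iff.2 rfl, rfl⟩
      cen := by
        intro x hx
        rw [hPc] at hx
        exact mem_centralizer_singleton_iff.1 hx
      perf := by rw [hP, ← map_commutator, fS.perf]
      der := ⟨0, by rw [TR.dser_zero, hPc]⟩
      out := by rw [hrange, index_top]; norm_num
      schreier := ⟨0, by rw [hrange]; exact le_top⟩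
      sylAut := fun _ _ α _ _ => innK α }
  have hcen : center ↥K = ⊥ := by
    rw [eq_bot_iff]
    intro x hx
    rw [mem_bot]
    have hx' : ∀ p, p * e.symm x = e.symm x * p := by
      intro p
      have h1 := mem_center_iff.1 hx (e p)
      have h2 := congrArg e.symm h1
      rwa [map_mul, map_mul, e.symm_apply_apply] at h2
    rcases fP.cP (e.symm x) (hx' z).symm (fun p _ => hx' p) with h1 | h1
    · have h2 := congrArg e h1
      rwa [e.apply_symm_apply, map_one] at h2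
    · exfalso
      obtain ⟨b, hb, hb1, hbz⟩ := fP.ex
      obtain ⟨k, hk, -⟩ := fP.rot b hb hb1 hbz
      apply hbz
      rw [← hk, ← h1, hx' k, mul_inv_cancel_right]
  obtain ⟨t, q, st⟩ := exists_start C S hcyc hcen
  have hE : Emb K t q (e z) P := ⟨st, hB⟩
  have o : Out K t q (e z) P := MainE.out_of_emb C hE
  obtain ⟨y, F⟩ := StepOne.exists_fam o (fun x hx => by
    rw [hPc]; exact mem_centralizer_singleton_iff.2 hx) inn fP
  obtain ⟨f, hf⟩ := kill F fE fQ fL
  have h1 := TR.Frame.hom_eq_one (index_ne_two C) f t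
  rw [hf] at h1
  exact absurd h1 (by decide)

end Cfsg.Agent.OddHalf.M24
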