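import Cfsg.Agent.OddHalf.M24.Pairs

/-!
# ODD half, D8, `K = M24`: the doubled group `E* = ⟨E, y_u : u ∈ E - 1⟩` (helper785)

`Star ι y E`; elementary abelian (`Good.starComm`, `Good.starSq`), its elements are `e` and `y_v e`
(`Good.form`), and it is the only elementary abelian group `M` normalised by `t` with `C_M(t) = E` whose elements …
(`Good.uniq`).
-/

set_option autoImplicit false

namespace Cfsg.Agent.OddHalf.M24

open Subgroup

variable {X G : Type*} [Group X] [Group G] {ι : X →* G} {t : G} {z : X} {y : X → G}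

/-- `E* = ⟨E, y_u⟩` -/
def Star (ι : X →* G) (y : X → G) (E : Subgroup X) : Subgroup G :=
  closure ({g | ∃ e ∈ E, g = ι e} ∪ {g | ∃ e ∈ E, e ≠ 1 ∧ g = y e})

/-- `E - 1 ⊆ C`, the `y_u` commute, `C(E) ≤ E` -/
structure Good (z : X) (y : X → G) (E : Subgroup X) : Prop where
  EC : ∀ e ∈ E, e ≠ 1 → e ∈ Cl z
  com : ∀ u ∈ E, ∀ v ∈ E, u ≠ 1 → v ≠ 1 → y u * y v = y v * y u
  cen : ∀ x, (∀ e ∈ E, x * e = e * x) → x ∈ E
  ne : ∃ u ∈ E, u ≠ 1

theorem closure_comm {A : Set G} (h : ∀ a ∈ A, ∀ b ∈ A, a * b = b * a) :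
    ∀ m ∈ closure A, ∀ n ∈ closure A, m * n = n * m := by
  have h1 : closure A ≤ centralizer A := by
    rw [closure_le]
    intro a ha
    exact mem_centralizer_iff.2 fun b hb => h b hb a ha
  have h2 : closure A ≤ centralizer (closure A : Set G) := by
    rw [closure_le]
    intro a ha
    exact mem_centralizer_iff.2 fun n hn => ((mem_centralizer_iff.1 (h1 hn)) a ha).symm
  intro m hm n hn
  exact ((mem_centralizer_iff.1 (h2 hm)) n hn).symm

theorem ι_mem_star {E : Subgroup X} {e : X} (he : e ∈ E) : ι e ∈ Star ι y E :=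
  subset_closure (Or.inl ⟨e, he, rfl⟩)

theorem y_mem_star {E : Subgroup X} {e : X} (he : e ∈ E) (h1 : e ≠ 1) : y e ∈ Star ι y E :=
  subset_closure (Or.inr ⟨e, he, h1, rfl⟩)

namespace Good

variable {E : Subgroup X}

theorem sq (hE : Good z y E) (F : Fam ι t z y) {e : X} (he : e ∈ E) : e * e = 1 := by
  by_cases h1 : e = 1
  · rw [h1, one_mul]
  · exact F.sq (hE.EC e he h1)

theorem comm (hE : Good z y E) (F : Fam ι t z y) {e f : X} (he : e ∈ E) (hf : f ∈ E) : e * f = f * e := by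
  have h1 := hE.sq F (E.mul_mem he hf)
  calc e * f = e * (e * f * (e * f)) * f := by rw [h1, mul_one]
    _ = (e * e) * (f * e) * (f * f) := by group
    _ = f * e := by rw [hE.sq F he, hE.sq F hf, one_mul, mul_one]

theorem starComm (hE : Good z y E) (F : Fam ι t z y) :
    ∀ m ∈ Star ι y E, ∀ n ∈ Star ι y E, m * n = n * m := by
  apply closure_comm
  rintro _ (⟨e, he, rfl⟩ | ⟨e, he, he1, rfl⟩) _ (⟨f, hf, rfl⟩ | ⟨f, hf, hf1, rfl⟩)
  · rw [← map_mul, ← map_mul, hE.comm F he hf]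
  · exact F.ycomm (hE.EC f hf hf1) (hE.comm F he hf)
  · exact (F.ycomm (hE.EC e he he1) (hE.comm F hf he)).symm
  · exact hE.com e he f hf he1 hf1

theorem starSq (hE : Good z y E) (F : Fam ι t z y) : ∀ m ∈ Star ι y E, m * m = 1 := by
  intro m hm
  induction hm using closure_induction with
  | mem x hx =>
    rcases hx with ⟨e, he, rfl⟩ | ⟨e, he, he1, rfl⟩
    · rw [← map_mul, hE.sq F he, map_one]
    · exact F.ysq e (hE.EC e he he1)
  | one => exact one_mul 1
  | mul a b ha hb iha ihb =>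
    have h1 := hE.starComm F a ha b hb
    calc a * b * (a * b) = a * (b * a) * b := by group
      _ = a * a * (b * b) := by rw [← h1]; group
      _ = 1 := by rw [iha, ihb, one_mul]
  | inv a _ iha =>
    rw [← mul_inv_rev, iha, inv_one]

/-- the action on `t` -/
theorem starAc (hE : Good z y E) (F : Fam ι t z y) : ∀ m ∈ Star ι y E, ∃ v ∈ E, Ac ι t m v := by
  intro m hm
  induction hm using closure_induction with
  | mem x hx =>
    rcases hx with ⟨e, he, rfl⟩ | ⟨e, he, he1, rfl⟩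
    · exact ⟨1, E.one_mem, F.ac e⟩
    · exact ⟨e, he, F.yac (hE.EC e he he1)⟩
  | one => exact ⟨1, E.one_mem, by rw [Ac.one_iff, one_mul, mul_one]⟩
  | mul a b ha hb iha ihb =>
    obtain ⟨v, hv, h1⟩ := iha
    obtain ⟨w, hw, h2⟩ := ihb
    exact ⟨v * w, E.mul_mem hv hw, h1.mul h2 (hE.starComm F a ha _ (ι_mem_star hw))⟩
  | inv a ha iha =>
    obtain ⟨v, hv, h1⟩ := iha
    refine ⟨v, hv, ?_⟩
    have h2 : a⁻¹ = a := inv_eq_of_mul_eq_one_left (hE.starSq F a ha)
    rwa [h2]

/-- an element of `E*` commuting with `t` lies in `E` -/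
theorem star_cen (hE : Good z y E) (F : Fam ι t z y) {m : G} (hm : m ∈ Star ι y E)
    (hmt : m * t = t * m) : ∃ e ∈ E, m = ι e := by
  obtain ⟨x, hx, hxc, -⟩ := F.spl' hmt
  have hxE : x ∈ E := hE.cen x fun e he => hxc e (hE.starComm F m hm _ (ι_mem_star he))
  rcases hx with hx | hx
  · exact ⟨x, hxE, hx⟩
  · exfalso
    have h1 : t ∈ Star ι y E := by
      have h2 := (Star ι y E).mul_mem hm (ι_mem_star (ι := ι) (y := y) (E.inv_mem hxE))
      rwa [hx, map_inv, mul_inv_cancel_right] at h2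
    obtain ⟨u, hu, hu1⟩ := hE.ne
    exact F.y_not_comm (hE.EC u hu hu1) (hE.starComm F _ (y_mem_star hu hu1) _ h1)

/-- the elements of `E*` -/
theorem form (hE : Good z y E) (F : Fam ι t z y) {m : G} (hm : m ∈ Star ι y E) {v : X} (hv : v ∈ E)
    (h : Ac ι t m v) : (v = 1 ∧ ∃ e ∈ E, m = ι e) ∨ (v ≠ 1 ∧ ∃ e ∈ E, m = y v * ι e) := by
  by_cases hv1 : v = 1
  · left
    refine ⟨hv1, ?_⟩
    subst hv1
    exact hE.star_cen F hm (Ac.one_iff.1 h)
  · right
    refine ⟨hv1, ?_⟩
    have hvC := hE.EC v hv hv1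
    have hyS : y v ∈ Star ι y E := y_mem_star hv hv1
    have h1 : Ac ι t (y v * m) (v * v) :=
      (F.yac hvC).mul h (hE.starComm F _ hyS _ (ι_mem_star hv))
    rw [hE.sq F hv] at h1
    obtain ⟨e, he, h2⟩ := hE.star_cen F ((Star ι y E).mul_mem hyS hm) (Ac.one_iff.1 h1)
    refine ⟨e, he, ?_⟩
    rw [← h2, ← mul_assoc, F.ysq v hvC, one_mul]

/-- `E*` is normalised by `t` -/
theorem star_t (hE : Good z y E) (F : Fam ι t z y) {m : G} (hm : m ∈ Star ι y E) :
    t * m * t ∈ Star ι y E := by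
  obtain ⟨v, hv, h⟩ := hE.starAc F m hm
  unfold Ac at h
  have h1 : m * t = t * ι v * m := mul_inv_eq_iff_eq_mul.1 h
  have h2 : t * m * t = ι v * m := by
    calc t * m * t = t * (m * t) := by group
      _ = (t * t) * (ι v * m) := by rw [h1]; group
      _ = ι v * m := by rw [F.tt, one_mul]
  rw [h2]
  exact (Star ι y E).mul_mem (ι_mem_star hv) hm

/-- the normaliser of `E` normalises `E*` -/
theorem star_conj (hE : Good z y E) (F : Fam ι t z y) {k : X} (hk : ∀ e ∈ E, k * e * k⁻¹ ∈ E) {m : G}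
    (hm : m ∈ Star ι y E) : ι k * m * (ι k)⁻¹ ∈ Star ι y E := by
  induction hm using closure_induction with
  | mem x hx =>
    rcases hx with ⟨e, he, rfl⟩ | ⟨e, he, he1, rfl⟩
    · rw [← map_inv, ← map_mul, ← map_mul]
      exact ι_mem_star (hk e he)
    · rw [← F.yeq e (hE.EC e he he1)]
      exact y_mem_star (hk e he) fun h1 => he1 (by
        rw [mul_inv_eq_one] at h1
        exact mul_eq_left.1 h1)
  | one => rw [mul_one, mul_inv_cancel]; exact one_mem _
  | mul a b _ _ iha ihb =>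
    have := (Star ι y E).mul_mem iha ihb
    have e : ι k * a * (ι k)⁻¹ * (ι k * b * (ι k)⁻¹) = ι k * (a * b) * (ι k)⁻¹ := by group
    rwa [e] at this
  | inv a _ iha =>
    have := (Star ι y E).inv_mem iha
    have e : (ι k * a * (ι k)⁻¹)⁻¹ = ι k * a⁻¹ * (ι k)⁻¹ := by group
    rwa [e] at this

/-- **uniqueness** of `E*` -/
theorem uniq (hE : Good z y E) (F : Fam ι t z y) {M : Subgroup G} (hsq : ∀ m ∈ M, m * m = 1)
    (ht : ∀ m ∈ M, t * m * t ∈ M) (hc : ∀ m ∈ M, m * t = t * m → ∃ e ∈ E, m = ι e)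
    (hEM : ∀ e ∈ E, ι e ∈ M) : M ≤ Star ι y E := by
  have hinv : ∀ m ∈ M, m⁻¹ = m := fun m hm => inv_eq_of_mul_eq_one_left (hsq m hm)
  have hcomm : ∀ m ∈ M, ∀ n ∈ M, m * n = n * m := by
    intro m hm n hn
    have h1 := hinv _ (M.mul_mem hm hn)
    rw [mul_inv_rev, hinv m hm, hinv n hn] at h1
    exact h1.symm
  intro m hm
  -- `[m, t] ∈ C_M(t)`
  have h1 : m * (t * m * t) ∈ M := M.mul_mem hm (ht m hm)
  have h2 : m * (t * m * t) * t = t * (m * (t * m * t)) := by
    have h3 := hinv _ h1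
    have h4 : (m * (t * m * t))⁻¹ = t * m * t * m := by
      rw [mul_inv_rev, mul_inv_rev, mul_inv_rev, F.tinv, hinv m hm]
      group
    rw [h4] at h3
    calc m * (t * m * t) * t = m * t * m * (t * t) := by group
      _ = (t * t) * (m * t * m) := by rw [F.tt, mul_one, one_mul]
      _ = t * (t * m * t * m) := by group
      _ = t * (m * (t * m * t)) := by rw [h3]
  obtain ⟨v, hv, h3⟩ := hc _ h1 h2
  have hac : Ac ι t m v := by
    unfold Ac
    rw [hinv m hm]
    calc m * t * m = (m * (t * m * t)) * t := by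
          calc m * t * m = m * t * m * (t * t) := by rw [F.tt, mul_one]
            _ = _ := by group
      _ = t * (m * (t * m * t)) := h2
      _ = t * ι v := by rw [h3]
  by_cases hv1 : v = 1
  · subst hv1
    obtain ⟨e, he, h4⟩ := hc m hm (Ac.one_iff.1 hac)
    rw [h4]
    exact ι_mem_star he
  · have hvC := hE.EC v hv hv1
    have h5 : Ac ι t (m * y v) (v * v) := hac.mul (F.yac hvC) (hcomm m hm _ (hEM v hv))
    rw [hE.sq F hv] at h5
    obtain ⟨x, hx, hxc, -⟩ := F.spl' (Ac.one_iff.1 h5)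
    have hxE : x ∈ E := hE.cen x fun e he => hxc e (by
      calc m * y v * ι e = m * (y v * ι e) := by group
        _ = m * ι e * y v := by rw [← F.ycomm hvC (hE.comm F he hv)]; group
        _ = ι e * (m * y v) := by rw [hcomm m hm _ (hEM e he)]; group)
    have hmul : m * y v * y v = m := by rw [mul_assoc, F.ysq v hvC, mul_one]
    rcases hx with hx | hx
    · have h6 : m = ι x * y v := by rw [← hx, hmul]
      rw [h6]
      exact (Star ι y E).mul_mem (ι_mem_star hxE) (y_mem_star hv hv1)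
    · exfalso
      have h6 : m = t * ι x * y v := by rw [← hx, hmul]
      have h7 : ι x * y v = y v * ι x := F.ycomm hvC (hE.comm F hxE hv)
      have h8 : m * m = ι v := by
        have hxx : ι x * ι x = 1 := by rw [← map_mul, hE.sq F hxE, map_one]
        calc m * m = t * (ι x * y v) * t * (ι x * y v) := by rw [h6]; group
          _ = t * y v * (ι x * t) * (ι x * y v) := by rw [h7]; group
          _ = t * y v * t * (ι x * ι x) * y v := by rw [F.ct]; group
          _ = y v * ι v * y v := by rw [hxx, mul_one, F.tyt hvC]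
          _ = y v * y v * ι v := by rw [mul_assoc, F.ycomm hvC rfl]; group
          _ = ι v := by rw [F.ysq v hvC, one_mul]
      rw [hsq m hm] at h8
      exact F.ιne hv1 h8.symm

end Good

/-- `E` satisfying `FactsE` is good -/
theorem FactsE.good {E : Subgroup X} (hE : FactsE z E) (F : Fam ι t z y) : Good z y E where
  EC := hE.EC
  com := fun _ hu _ hv hu1 hv1 => F.comm hE hu hv hu1 hv1
  cen := hE.cen
  ne := by
    by_contra hcon
    push Not at hcon
    have h1 : E = ⊥ := by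
      rw [eq_bot_iff]
      exact fun e he => mem_bot.2 (hcon e he)
    have h2 := hE.card
    rw [h1, card_bot] at h2
    omega

/-- conjugates of good groups are good -/
theorem Good.conj {E E' : Subgroup X} (hE : Good z y E) (F : Fam ι t z y) {k : X}
    (hk : ∀ x, x ∈ E' ↔ k * x * k⁻¹ ∈ E) : Good z y E' where
  EC := by
    intro e he he1
    have h1 := hE.EC _ ((hk e).1 he) (fun h => he1 (by
      rw [mul_inv_eq_one] at h
      exact mul_eq_left.1 h))
    have h2 := Cl_conj h1 k⁻¹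
    have e : k⁻¹ * (k * e * k⁻¹) * k⁻¹⁻¹ = e := by group
    rwa [e] at h2
  com := by
    intro u hu v hv hu1 hv1
    have hu2 : k * u * k⁻¹ ≠ 1 := fun h => hu1 (by
      rw [mul_inv_eq_one] at h
      exact mul_eq_left.1 h)
    have hv2 : k * v * k⁻¹ ≠ 1 := fun h => hv1 (by
      rw [mul_inv_eq_one] at h
      exact mul_eq_left.1 h)
    have h1 := hE.com _ ((hk u).1 hu) _ ((hk v).1 hv) hu2 hv2
    have e1 : ∀ {u : X}, k * u * k⁻¹ ∈ Cl z → y (k * u * k⁻¹) = ι k * y u * (ι k)⁻¹ := by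
      intro u hu
      have h2 := Cl_conj hu k⁻¹
      have e : k⁻¹ * (k * u * k⁻¹) * k⁻¹⁻¹ = u := by group
      rw [e] at h2
      exact F.yeq u h2 k
    rw [e1 (hE.EC _ ((hk u).1 hu) hu2), e1 (hE.EC _ ((hk v).1 hv) hv2)] at h1
    have h3 : ι k * (y u * y v) * (ι k)⁻¹ = ι k * (y v * y u) * (ι k)⁻¹ := by
      calc ι k * (y u * y v) * (ι k)⁻¹ = ι k * y u * (ι k)⁻¹ * (ι k * y v * (ι k)⁻¹) := by group
        _ = ι k * y v * (ι k)⁻¹ * (ι k * y u * (ι k)⁻¹) := h1
        _ = _ := by group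
    exact mul_left_cancel (mul_right_cancel h3)
  cen := by
    intro x hx
    rw [hk]
    apply hE.cen
    intro e he
    have h1 := hx (k⁻¹ * e * k) ((hk _).2 (by
      have e1 : k * (k⁻¹ * e * k) * k⁻¹ = e := by group
      rwa [e1]))
    calc k * x * k⁻¹ * e = k * (x * (k⁻¹ * e * k)) * k⁻¹ := by group
      _ = k * (k⁻¹ * e * k * x) * k⁻¹ := by rw [h1]
      _ = e * (k * x * k⁻¹) := by group
  ne := by
    obtain ⟨u, hu, hu1⟩ := hE.ne
    refine ⟨k⁻¹ * u * k, (hk _).2 (by
      have e1 : k * (k⁻¹ * u * k) * k⁻¹ = u := by group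
      rwa [e1]), fun h => hu1 ?_⟩
    calc u = k * (k⁻¹ * u * k) * k⁻¹ := by group
      _ = 1 := by rw [h]; group

end Cfsg.Agent.OddHalf.M24
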