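import Cfsg.Agent.OddHalf.M24.Star

/-!
# ODD half, D8, `K = M24`: Step 3 (helper785) and Step 3' (helper508)

`Good.tv_conj`: for a transvection `w` on `E` the involution `y_w` normalises `E*`.
`Good.rs_conj`: for commuting transvections `r, s` with `r s ∈ C` and `C(C(r, s)) ≤ N(E)`, `y_{rs}` normalises `E*`.
-/

set_option autoImplicit false

namespace Cfsg.Agent.OddHalf.M24

open Subgroup

variable {X G : Type*} [Group X] [Group G] {ι : X →* G} {t : G} {z : X} {y : X → G}

namespace Good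

variable {E : Subgroup X}

section

variable (F : Fam ι t z y) {w : X}

/-- `t w` is an involution -/
theorem _root_.Cfsg.Agent.OddHalf.M24.Fam.dd (F : Fam ι t z y) {w : X} (hw : w ∈ Cl z) :
    t * ι w * (t * ι w) = 1 := by
  calc t * ι w * (t * ι w) = t * (ι w * t) * ι w := by group
    _ = t * t * (ι w * ι w) := by rw [F.ct]; group
    _ = 1 := by rw [F.tt, F.ιsq hw, one_mul]

theorem _root_.Cfsg.Agent.OddHalf.M24.Fam.WtW (F : Fam ι t z y) {w : X} (hw : w ∈ Cl z) :
    y w * t * y w = t * ι w := by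
  have := F.yt w hw
  rwa [F.yinv hw] at this

theorem _root_.Cfsg.Agent.OddHalf.M24.Fam.WdW (F : Fam ι t z y) {w : X} (hw : w ∈ Cl z) :
    y w * (t * ι w) * y w = t := by
  rw [← F.WtW hw]
  calc y w * (y w * t * y w) * y w = (y w * y w) * t * (y w * y w) := by group
    _ = t := by rw [F.ysq w hw, one_mul, mul_one]

end

/-- `t w` normalises `E*` -/
theorem d_conj (hE : Good z y E) (F : Fam ι t z y) {w : X} (hw : w ∈ Cl z)
    (hn : ∀ e ∈ E, w * e * w⁻¹ ∈ E) {m : G} (hm : m ∈ Star ι y E) :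
    t * ι w * m * (t * ι w) ∈ Star ι y E := by
  have h1 := hE.star_t F (hE.star_conj F hn hm)
  have h2 : (ι w)⁻¹ = ι w := inv_eq_of_mul_eq_one_left (F.ιsq hw)
  rw [h2] at h1
  have e : t * (ι w * m * ι w) * t = t * ι w * m * (t * ι w) := by
    calc t * (ι w * m * ι w) * t = t * ι w * m * (ι w * t) := by group
      _ = t * ι w * m * (t * ι w) := by rw [F.ct]
  rwa [e] at h1

/-- the elements of `E*` commuting with `t w` -/
theorem d_form (hE : Good z y E) (F : Fam ι t z y) {w a : X}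
    (hn : ∀ e ∈ E, w * e * w⁻¹ ∈ E) (ha : ∀ e ∈ E, w * e = e * w ∨ w * e * w⁻¹ = e * a) {m : G}
    (hm : m ∈ Star ι y E) (hd : m * (t * ι w) = t * ι w * m) :
    (∃ e ∈ E, w * e = e * w ∧ m = ι e) ∨
      (∃ e ∈ E, w * e * w⁻¹ = e * a ∧ m = y a * ι e ∧ a ∈ E ∧ a ≠ 1) := by
  obtain ⟨v, hv, hac⟩ := hE.starAc F m hm
  rcases hE.form F hm hv hac with ⟨-, e, he, rfl⟩ | ⟨hv1, e, he, rfl⟩
  · left
    refine ⟨e, he, ?_, rfl⟩
    apply F.inj
    rw [map_mul, map_mul]
    have h1 : t * (ι w * ι e) = t * (ι e * ι w) := by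
      calc t * (ι w * ι e) = t * ι w * ι e := by group
        _ = (ι e * t) * ι w := by rw [← hd]; group
        _ = t * (ι e * ι w) := by rw [F.ct]; group
    exact mul_left_cancel h1
  · right
    have hvC := hE.EC v hv hv1
    have hwv : w * v * w⁻¹ ∈ E := hn v hv
    have h1 : t * (y v * ι e) * t = ι w * (y v * ι e) * (ι w)⁻¹ := by
      have h2 : y v * ι e * t = t * ι w * (y v * ι e) * (ι w)⁻¹ := by
        rw [← hd]; group
      calc t * (y v * ι e) * t = t * (y v * ι e * t) := by group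
        _ = (t * t) * (ι w * (y v * ι e) * (ι w)⁻¹) := by rw [h2]; group
        _ = _ := by rw [F.tt, one_mul]
    have h2 : t * (y v * ι e) * t = y v * ι (v * e) := by
      calc t * (y v * ι e) * t = t * y v * (ι e * t) := by group
        _ = (t * y v * t) * ι e := by rw [F.ct]; group
        _ = y v * ι (v * e) := by rw [F.tyt hvC, map_mul]; group
    have h3 : ι w * (y v * ι e) * (ι w)⁻¹ = y (w * v * w⁻¹) * ι (w * e * w⁻¹) := by
      rw [F.yeq v hvC, map_mul, map_mul, map_inv]
      group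
    have h4 : y v * ι (v * e) = y (w * v * w⁻¹) * ι (w * e * w⁻¹) := by rw [← h2, h1, h3]
    have hwv1 : w * v * w⁻¹ ≠ 1 := fun h => hv1 (by
      rw [mul_inv_eq_one] at h
      exact mul_eq_left.1 h)
    have hac1 : Ac ι t (y v * ι (v * e)) (v * 1) :=
      (F.yac hvC).mul (F.ac _) (by rw [map_one, mul_one, one_mul])
    have hac2 : Ac ι t (y v * ι (v * e)) (w * v * w⁻¹ * 1) := by
      rw [h4]
      exact (F.yac (hE.EC _ hwv hwv1)).mul (F.ac _) (by rw [map_one, mul_one, one_mul])
    have h5 := Ac.inj F.toAmb hac1 hac2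
    rw [mul_one, mul_one] at h5
    rw [← h5] at h4
    have h6 : v * e = w * e * w⁻¹ := F.inj (mul_left_cancel h4)
    rcases ha e he with h7 | h7
    · exfalso
      rw [h7, mul_inv_cancel_right] at h6
      exact hv1 (mul_eq_right.1 h6)
    · have h8 : v = a := by
        rw [h7, hE.comm F hv he] at h6
        exact mul_left_cancel h6
      subst h8
      exact ⟨e, he, h7, rfl, hv, hv1⟩

/-- elements `y_a e` commute with `t w` -/
theorem d_comm (hE : Good z y E) (F : Fam ι t z y) {w a e : X} (haE : a ∈ E) (ha1 : a ≠ 1)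
    (hwa : w * a = a * w) (he : e ∈ E) (hwe : w * e * w⁻¹ = e * a) :
    y a * ι e * (t * ι w) = t * ι w * (y a * ι e) := by
  have haC := hE.EC a haE ha1
  have h1 : ι w * y a = y a * ι w := F.ycomm haC hwa
  have h2 : ι w * ι e = ι (e * a) * ι w := by
    rw [← map_mul, ← map_mul, ← hwe, inv_mul_cancel_right]
  have h3 : t * y a = y a * ι a * t := by
    have h4 : y a * ι a * t = t * y a * (t * t) := by rw [← F.tyt haC]; group
    rw [h4, F.tt, mul_one]
  have h5 : a * (e * a) = e := by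
    rw [← mul_assoc, hE.comm F haE he, mul_assoc, hE.sq F haE, mul_one]
  symm
  calc t * ι w * (y a * ι e) = t * (ι w * y a) * ι e := by group
    _ = t * y a * (ι w * ι e) := by rw [h1]; group
    _ = (t * y a) * ι (e * a) * ι w := by rw [h2]; group
    _ = y a * ι a * (t * ι (e * a)) * ι w := by rw [h3]; group
    _ = y a * (ι a * ι (e * a)) * (t * ι w) := by rw [← F.ct]; group
    _ = y a * ι e * (t * ι w) := by rw [← map_mul, h5]

/-- `m'' = y_a e₁ ∈ [E*, t w]` -/
theorem exists_comm (hE : Good z y E) (F : Fam ι t z y) {w a : X} (hw : w ∈ Cl z)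
    (hn : ∀ e ∈ E, w * e * w⁻¹ ∈ E) (ha : ∀ e ∈ E, w * e = e * w ∨ w * e * w⁻¹ = e * a)
    (haE : a ∈ E) (ha1 : a ≠ 1) {e₁ : X} (he₁ : e₁ ∈ E) (hwe : w * e₁ * w⁻¹ = e₁ * a) :
    ∃ m ∈ Star ι y E, m * (t * ι w * m * (t * ι w)) = y a * ι e₁ := by
  have hS := hE.starComm F
  have hdd := F.dd hw
  have hwinv : (ι w)⁻¹ = ι w := inv_eq_of_mul_eq_one_left (F.ιsq hw)
  have he1 : e₁ ≠ 1 := by
    rintro rfl
    rw [mul_one, mul_inv_cancel, one_mul] at hwe
    exact ha1 hwe.symm
  have heC := hE.EC e₁ he₁ he1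
  have hea : e₁ * a ∈ E := E.mul_mem he₁ haE
  have hea1 : e₁ * a ≠ 1 := by
    rw [← hwe]
    intro h
    rw [mul_inv_eq_one] at h
    exact he1 (mul_eq_left.1 h)
  have heaC := hE.EC _ hea hea1
  have haC := hE.EC a haE ha1
  -- conjugation of `y v` by `t w`
  have hdy : ∀ {v : X}, v ∈ Cl z → w * v * w⁻¹ ∈ Cl z →
      t * ι w * y v * (t * ι w) = y (w * v * w⁻¹) * ι (w * v * w⁻¹) := by
    intro v hv hv'
    calc t * ι w * y v * (t * ι w) = t * ι w * y v * (ι w * t) := by rw [F.ct]
      _ = t * (ι w * y v * (ι w)⁻¹) * t := by rw [hwinv]; group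
      _ = y (w * v * w⁻¹) * ι (w * v * w⁻¹) := by rw [← F.yeq v hv, F.tyt hv']
  set m1 := y e₁ with hm1
  have hm1S : m1 ∈ Star ι y E := y_mem_star he₁ he1
  set n1 := m1 * (t * ι w * m1 * (t * ι w)) with hn1
  have hdm1 : t * ι w * m1 * (t * ι w) ∈ Star ι y E := hE.d_conj F hw hn hm1S
  have hn1S : n1 ∈ Star ι y E := (Star ι y E).mul_mem hm1S hdm1
  have hdn1 : n1 * (t * ι w) = t * ι w * n1 := by
    calc n1 * (t * ι w) = m1 * (t * ι w * m1) * (t * ι w * (t * ι w)) := by rw [hn1]; group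
      _ = m1 * (t * ι w * m1) := by rw [hdd, mul_one]
      _ = (t * ι w * (t * ι w)) * (m1 * (t * ι w * m1)) := by rw [hdd, one_mul]
      _ = t * ι w * ((t * ι w * m1 * (t * ι w)) * m1) := by group
      _ = t * ι w * n1 := by rw [hn1, hS _ hdm1 _ hm1S]
  have hacd : Ac ι t (t * ι w * m1 * (t * ι w)) (e₁ * a * 1) := by
    rw [hm1, hdy heC (by rw [hwe]; exact heaC), hwe]
    exact (F.yac heaC).mul (F.ac _) (by rw [map_one, mul_one, one_mul])
  have hac : Ac ι t n1 (e₁ * (e₁ * a * 1)) := (F.yac heC).mul hacd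
    (hS _ hm1S _ (ι_mem_star (by rw [mul_one]; exact hea)))
  rw [mul_one, ← mul_assoc, hE.sq F he₁, one_mul] at hac
  rcases hE.d_form F hn ha hn1S hdn1 with ⟨e, -, -, h1⟩ | ⟨e₂, he₂, hwe₂, h1, -, -⟩
  · exfalso
    rw [h1] at hac
    exact ha1 (Ac.inj F.toAmb hac (F.ac e))
  · by_cases hv1 : e₁ * e₂ = 1
    · have h2 : e₂ = e₁ := by
        calc e₂ = (e₁ * e₁) * e₂ := by rw [hE.sq F he₁, one_mul]
          _ = e₁ * (e₁ * e₂) := by group
          _ = e₁ := by rw [hv1, mul_one]
      refine ⟨m1, hm1S, ?_⟩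
      rw [← hn1, h1, h2]
    · set v := e₁ * e₂ with hv
      have hvE : v ∈ E := E.mul_mem he₁ he₂
      have hvC := hE.EC v hvE hv1
      have hwv : w * v * w⁻¹ = v := by
        calc w * v * w⁻¹ = (w * e₁ * w⁻¹) * (w * e₂ * w⁻¹) := by rw [hv]; group
          _ = e₁ * (a * e₂) * a := by rw [hwe, hwe₂]; group
          _ = v * (a * a) := by rw [hE.comm F haE he₂, hv]; group
          _ = v := by rw [hE.sq F haE, mul_one]
      have hyv : y v ∈ Star ι y E := y_mem_star hvE hv1
      refine ⟨m1 * y v, (Star ι y E).mul_mem hm1S hyv, ?_⟩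
      have h3 : t * ι w * (m1 * y v) * (t * ι w) =
          (t * ι w * m1 * (t * ι w)) * (t * ι w * y v * (t * ι w)) := by
        calc t * ι w * (m1 * y v) * (t * ι w) = t * ι w * m1 * 1 * y v * (t * ι w) := by group
          _ = t * ι w * m1 * (t * ι w * (t * ι w)) * y v * (t * ι w) := by rw [hdd]
          _ = _ := by group
      have h4 : t * ι w * y v * (t * ι w) = y v * ι v := by
        rw [hdy hvC (by rw [hwv]; exact hvC), hwv]
      calc m1 * y v * (t * ι w * (m1 * y v) * (t * ι w))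
          = m1 * (y v * (t * ι w * m1 * (t * ι w))) * (y v * ι v) := by rw [h3, h4]; group
        _ = m1 * ((t * ι w * m1 * (t * ι w)) * y v) * (y v * ι v) := by rw [hS _ hyv _ hdm1]
        _ = n1 * (y v * y v) * ι v := by rw [hn1]; group
        _ = y a * ι (e₂ * v) := by rw [F.ysq v hvC, mul_one, h1, map_mul ι e₂ v]; group
        _ = y a * ι e₁ := by
          rw [hv, hE.comm F he₁ he₂, ← mul_assoc, hE.sq F he₂, one_mul]

/-- the core of Step 3 -/
theorem tv_core (hE : Good z y E) (F : Fam ι t z y) {w a : X} (hw : w ∈ Cl z)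
    (hn : ∀ e ∈ E, w * e * w⁻¹ ∈ E) (ha : ∀ e ∈ E, w * e = e * w ∨ w * e * w⁻¹ = e * a)
    (haE : a ∈ E) (ha1 : a ≠ 1) (hwa : w * a = a * w)
    (k3 : ∀ q, q * q = 1 → (∀ e ∈ E, w * e = e * w → q * e = e * q) →
      (∀ c, c * w = w * c → (∀ e ∈ E, c * e * c⁻¹ ∈ E) →
        q * c * q⁻¹ * c⁻¹ ∈ E ∧ w * (q * c * q⁻¹ * c⁻¹) = q * c * q⁻¹ * c⁻¹ * w) →
      q * w = w * q ∨ q ∈ E)
    {e₁ : X} (he₁ : e₁ ∈ E) (hwe : w * e₁ * w⁻¹ = e₁ * a) :
    ∃ q ∈ E, w * q * w⁻¹ = q * a ∧ y w * (y a * ι e₁) * y w = ι q := by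
  have hS := hE.starComm F
  have haC := hE.EC a haE ha1
  have hW := F.ysq w hw
  have hWd := F.WdW hw
  have hWt := F.WtW hw
  have hdd := F.dd hw
  have hyaS : y a ∈ Star ι y E := y_mem_star haE ha1
  set m := y a * ι e₁ with hm
  have hmS : m ∈ Star ι y E := (Star ι y E).mul_mem hyaS (ι_mem_star he₁)
  have hmd : m * (t * ι w) = t * ι w * m := hE.d_comm F haE ha1 hwa he₁ hwe
  have hmac : Ac ι t m a := by
    have := (F.yac haC).mul (F.ac e₁) (by rw [map_one, mul_one, one_mul])
    rwa [mul_one] at this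
  have hmt : m * t ≠ t * m := fun h => ha1 (Ac.inj F.toAmb hmac (Ac.one_iff.2 h))
  -- `m₀ = W m W`
  set m0 := y w * m * y w with hm0
  have hWm0 : y w * m0 * y w = m := by
    calc y w * m0 * y w = (y w * y w) * m * (y w * y w) := by rw [hm0]; group
      _ = m := by rw [hW, one_mul, mul_one]
  have hm0t : m0 * t = t * m0 := by
    calc m0 * t = y w * m * (y w * (y w * (t * ι w) * y w)) := by rw [hWd, hm0]; group
      _ = y w * m * ((y w * y w) * (t * ι w) * y w) := by group
      _ = y w * (m * (t * ι w)) * y w := by rw [hW, one_mul]; group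
      _ = y w * (t * ι w) * (y w * y w) * m * y w := by rw [hmd, hW]; group
      _ = (y w * (t * ι w) * y w) * (y w * m * y w) := by group
      _ = t * m0 := by rw [hWd]
  obtain ⟨q, hq, hqc, -⟩ := F.spl' hm0t
  have hm02 : m0 * m0 = 1 := by
    calc m0 * m0 = y w * m * (y w * y w) * m * y w := by rw [hm0]; group
      _ = y w * (m * m) * y w := by rw [hW]; group
      _ = 1 := by rw [hE.starSq F m hmS, mul_one, hW]
  have hqq : q * q = 1 := by
    apply F.inj
    rw [map_mul, map_one]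
    rcases hq with h | h
    · rw [← h]; exact hm02
    · calc ι q * ι q = (t * t) * (ι q * ι q) := by rw [F.tt, one_mul]
        _ = t * (t * ι q) * ι q := by group
        _ = t * (ι q * t) * ι q := by rw [F.ct]
        _ = (t * ι q) * (t * ι q) := by group
        _ = 1 := by rw [← h]; exact hm02
  have hWe : ∀ e, w * e = e * w → y w * ι e = ι e * y w := fun e he => (F.ycomm hw he.symm).symm
  have hqA : ∀ e ∈ E, w * e = e * w → q * e = e * q := by
    intro e he hwe'
    apply hqc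
    calc m0 * ι e = y w * m * (y w * ι e) := by rw [hm0]; group
      _ = y w * (m * ι e) * y w := by rw [hWe e hwe']; group
      _ = (y w * ι e) * m * y w := by rw [hS m hmS _ (ι_mem_star he)]; group
      _ = ι e * m0 := by rw [hWe e hwe', hm0]; group
  have hqC : ∀ c, c * w = w * c → (∀ e ∈ E, c * e * c⁻¹ ∈ E) →
      q * c * q⁻¹ * c⁻¹ ∈ E ∧ w * (q * c * q⁻¹ * c⁻¹) = q * c * q⁻¹ * c⁻¹ * w := by
    intro c hcw hcE
    have hct := F.ct c
    set m2 := ι c * m * (ι c)⁻¹ with hm2
    have hm2S : m2 ∈ Star ι y E := hE.star_conj F hcE hmS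
    have hcd : ι c * (t * ι w) = t * ι w * ι c := by
      calc ι c * (t * ι w) = (ι c * t) * ι w := by group
        _ = t * (ι c * ι w) := by rw [hct]; group
        _ = t * ι w * ι c := by rw [← map_mul, hcw, map_mul]; group
    have hm2d : m2 * (t * ι w) = t * ι w * m2 := by
      have h1 : (ι c)⁻¹ * (t * ι w) = t * ι w * (ι c)⁻¹ := by
        rw [inv_mul_eq_iff_eq_mul, ← mul_assoc, hcd, mul_inv_cancel_right]
      calc m2 * (t * ι w) = ι c * m * ((ι c)⁻¹ * (t * ι w)) := by rw [hm2]; group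
        _ = ι c * (m * (t * ι w)) * (ι c)⁻¹ := by rw [h1]; group
        _ = (ι c * (t * ι w)) * m * (ι c)⁻¹ := by rw [hmd]; group
        _ = t * ι w * m2 := by rw [hcd, hm2]; group
    rcases hE.d_form F hn ha hm2S hm2d with ⟨e, -, -, h1⟩ | ⟨e₂, he₂, hwe₂, h1, -, -⟩
    · exfalso
      apply hmt
      have h2 : m = ι (c⁻¹ * e * c) := by
        rw [map_mul, map_mul, map_inv, ← h1, hm2]; group
      rw [h2, F.ct]
    · set f := e₁ * e₂⁻¹ with hf
      have hfE : f ∈ E := E.mul_mem he₁ (E.inv_mem he₂)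
      have hwf : w * f = f * w := by
        have h2 : w * f * w⁻¹ = f := by
          calc w * f * w⁻¹ = (w * e₁ * w⁻¹) * (w * e₂ * w⁻¹)⁻¹ := by rw [hf]; group
            _ = f := by rw [hwe, hwe₂, hf]; group
        rwa [mul_inv_eq_iff_eq_mul] at h2
      have h3 : m = ι f * m2 := by
        have h4 : ι e₂ * y a = y a * ι e₂ := F.ycomm haC (hE.comm F he₂ haE)
        have h5 : ι f * y a = y a * ι f := F.ycomm haC (hE.comm F hfE haE)
        calc m = y a * ι (f * e₂) := by rw [hm, hf, inv_mul_cancel_right]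
          _ = (y a * ι f) * ι e₂ := by rw [map_mul]; group
          _ = ι f * m2 := by rw [← h5, h1]; group
      have h4 : m0 = ι f * (ι c * m0 * (ι c)⁻¹) := by
        have h5 : y w * ι c = ι c * y w := hWe c hcw.symm
        have h6 : y w * (ι c)⁻¹ = (ι c)⁻¹ * y w := by
          rw [← map_inv]
          exact hWe _ (Commute.inv_right (show Commute w c from hcw.symm))
        calc m0 = (y w * ι f) * m2 * y w := by rw [hm0]; nth_rw 1 [h3]; group
          _ = ι f * (y w * ι c) * m * ((ι c)⁻¹ * y w) := by rw [hWe f hwf, hm2]; group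
          _ = ι f * (ι c * y w) * m * (y w * (ι c)⁻¹) := by rw [h5, h6]
          _ = ι f * (ι c * m0 * (ι c)⁻¹) := by rw [hm0]; group
      have h5 : q * c * q⁻¹ * c⁻¹ = f := by
        apply F.inj
        rw [map_mul, map_mul, map_mul, map_inv, map_inv]
        rcases hq with h | h
        · rw [h] at h4
          calc ι q * ι c * (ι q)⁻¹ * (ι c)⁻¹ = (ι f * (ι c * ι q * (ι c)⁻¹)) * ι c * (ι q)⁻¹ * (ι c)⁻¹ := by
                rw [← h4]
            _ = ι f := by group
        · rw [h] at h4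
          have h6 : t * ι q = t * (ι f * (ι c * ι q * (ι c)⁻¹)) := by
            calc t * ι q = ι f * (ι c * (t * ι q) * (ι c)⁻¹) := h4
              _ = ι f * (ι c * t) * ι q * (ι c)⁻¹ := by group
              _ = (ι f * t) * ι c * ι q * (ι c)⁻¹ := by rw [hct]; group
              _ = t * (ι f * (ι c * ι q * (ι c)⁻¹)) := by rw [F.ct]; group
          have h7 := mul_left_cancel h6
          calc ι q * ι c * (ι q)⁻¹ * (ι c)⁻¹ = (ι f * (ι c * ι q * (ι c)⁻¹)) * ι c * (ι q)⁻¹ * (ι c)⁻¹ := by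
                rw [← h7]
            _ = ι f := by group
      rw [h5]
      exact ⟨hfE, hwf⟩
  -- `q` does not commute with `w`
  have hqw : ¬ q * w = w * q := by
    intro h
    have h1 : y w * ι q = ι q * y w := hWe q h.symm
    apply hmt
    rcases hq with h2 | h2
    · have h3 : m = ι q := by
        rw [← hWm0, h2, h1, mul_assoc, hW, mul_one]
      rw [h3, F.ct]
    · have h3 : m = t * ι (w * q) := by
        calc m = y w * (t * ι q) * y w := by rw [← hWm0, h2]
          _ = y w * t * (y w * y w) * ι q * y w := by rw [hW]; group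
          _ = (y w * t * y w) * (y w * ι q) * y w := by group
          _ = t * ι w * ι q * (y w * y w) := by rw [hWt, h1]; group
          _ = t * ι (w * q) := by rw [hW, mul_one, map_mul]; group
      rw [h3]
      calc t * ι (w * q) * t = t * (ι (w * q) * t) := by group
        _ = t * (t * ι (w * q)) := by rw [F.ct]
  have hqE : q ∈ E := (k3 q hqq hqA hqC).resolve_left hqw
  have hq1 : q ≠ 1 := by
    rintro rfl
    exact hqw (by rw [one_mul, mul_one])
  have hwq : w * q * w⁻¹ = q * a := (ha q hqE).resolve_left fun h => hqw h.symm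
  refine ⟨q, hqE, hwq, ?_⟩
  rcases hq with h | h
  · exact h
  · exfalso
    obtain ⟨n, hnS, hnm⟩ := hE.exists_comm F hw hn ha haE ha1 he₁ hwe
    have hnn := hE.starSq F n hnS
    have hninv : n⁻¹ = n := inv_eq_of_mul_eq_one_left hnn
    -- `n d n⁻¹ = m d = W ι q W`
    have h1 : n * (t * ι w) * n⁻¹ = m * (t * ι w) := by
      rw [hninv, hm, ← hnm]
      calc n * (t * ι w) * n = n * (t * ι w * n) * (t * ι w * (t * ι w)) := by rw [hdd]; group
        _ = n * (t * ι w * n * (t * ι w)) * (t * ι w) := by group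
    have h2 : m * (t * ι w) = y w * ι q * y w := by
      rw [hmd, ← hWm0, h]
      calc t * ι w * (y w * (t * ι q) * y w) = t * ι w * (y w * t * (y w * y w) * ι q * y w) := by
            rw [hW]; group
        _ = t * ι w * ((y w * t * y w) * (y w * ι q * y w)) := by group
        _ = (t * ι w * (t * ι w)) * (y w * ι q * y w) := by rw [hWt]; group
        _ = y w * ι q * y w := by rw [hdd, one_mul]
    obtain ⟨k, hk⟩ := hE.EC q hqE hq1
    apply F.tz ((ι k)⁻¹ * (y w * n * y w))
    have h3 : y w * n * y w * t * (y w * n * y w)⁻¹ = ι q := by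
      calc y w * n * y w * t * (y w * n * y w)⁻¹
          = y w * (n * (y w * t * (y w)⁻¹) * n⁻¹) * (y w)⁻¹ := by group
        _ = y w * (n * (t * ι w) * n⁻¹) * (y w)⁻¹ := by rw [F.yt w hw]
        _ = y w * (y w * ι q * y w) * (y w)⁻¹ := by rw [h1, h2]
        _ = (y w * y w) * ι q := by group
        _ = ι q := by rw [hW, one_mul]
    calc (ι k)⁻¹ * (y w * n * y w) * t * ((ι k)⁻¹ * (y w * n * y w))⁻¹
        = (ι k)⁻¹ * (y w * n * y w * t * (y w * n * y w)⁻¹) * ι k := by group
      _ = (ι k)⁻¹ * ι q * ι k := by rw [h3]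
      _ = ι z := by rw [← hk, map_mul, map_mul, map_inv]; group

/-- **Step 3**: `y_w` normalises `E*` for a transvection `w` on `E` -/
theorem tv_conj (hE : Good z y E) (F : Fam ι t z y) {w : X} (hT : Tv z E w) :
    ∀ m ∈ Star ι y E, y w * m * (y w)⁻¹ ∈ Star ι y E := by
  obtain ⟨a, haE, ha1, hwa, ha, e₁, he₁, hwe⟩ := hT.tv
  have hw := hT.wC
  have hn := hT.nor
  have hW := F.ysq w hw
  have hWd := F.WdW hw
  have hWt := F.WtW hw
  have hWi := F.yinv hw
  have haC := hE.EC a haE ha1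
  have hWe : ∀ e, w * e = e * w → y w * ι e = ι e * y w := fun e he => (F.ycomm hw he.symm).symm
  obtain ⟨q, hqE, hwq, hq⟩ := hE.tv_core F hw hn ha haE ha1 hwa hT.k3 he₁ hwe
  have hmS : y a * ι e₁ ∈ Star ι y E := (Star ι y E).mul_mem (y_mem_star haE ha1) (ι_mem_star he₁)
  set M : Subgroup G := (Star ι y E).map (MulAut.conj (y w)).toMonoidHom with hM
  have hmem : ∀ m, m ∈ M ↔ ∃ s ∈ Star ι y E, y w * s * y w = m := by
    intro m
    constructor
    · rintro ⟨s, hs, rfl⟩
      refine ⟨s, hs, ?_⟩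
      show y w * s * y w = y w * s * (y w)⁻¹
      rw [hWi]
    · rintro ⟨s, hs, rfl⟩
      refine ⟨s, hs, ?_⟩
      show y w * s * (y w)⁻¹ = y w * s * y w
      rw [hWi]
  have hle : M ≤ Star ι y E := by
    apply hE.uniq F
    · intro m hm
      obtain ⟨s, hs, rfl⟩ := (hmem m).1 hm
      calc y w * s * y w * (y w * s * y w) = y w * s * (y w * y w) * s * y w := by group
        _ = y w * (s * s) * y w := by rw [hW]; group
        _ = 1 := by rw [hE.starSq F s hs, mul_one, hW]
    · intro m hm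
      obtain ⟨s, hs, rfl⟩ := (hmem m).1 hm
      refine (hmem _).2 ⟨_, hE.d_conj F hw hn hs, ?_⟩
      calc y w * (t * ι w * s * (t * ι w)) * y w
          = y w * (t * ι w) * (y w * y w) * s * (y w * y w) * (t * ι w) * y w := by rw [hW]; group
        _ = (y w * (t * ι w) * y w) * (y w * s * y w) * (y w * (t * ι w) * y w) := by group
        _ = t * (y w * s * y w) * t := by rw [hWd]
    · intro m hm hmt
      obtain ⟨s, hs, rfl⟩ := (hmem m).1 hm
      have hsd : s * (t * ι w) = t * ι w * s := by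
        calc s * (t * ι w) = (y w * y w) * s * (y w * t * y w) := by rw [hW, one_mul, hWt]
          _ = y w * ((y w * s * y w) * t) * y w := by group
          _ = y w * (t * (y w * s * y w)) * y w := by rw [hmt]
          _ = (y w * t * y w) * s * (y w * y w) := by group
          _ = t * ι w * s := by rw [hWt, hW, mul_one]
      rcases hE.d_form F hn ha hs hsd with ⟨e, he, hwe', rfl⟩ | ⟨e₂, he₂, hwe₂, rfl, -, -⟩
      · refine ⟨e, he, ?_⟩
        rw [hWe e hwe', mul_assoc, hW, mul_one]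
      · obtain ⟨q₂, hq₂, -, h⟩ := hE.tv_core F hw hn ha haE ha1 hwa hT.k3 he₂ hwe₂
        exact ⟨q₂, hq₂, h⟩
    · intro e he
      rcases ha e he with h | h
      · refine (hmem _).2 ⟨ι e, ι_mem_star he, ?_⟩
        rw [hWe e h, mul_assoc, hW, mul_one]
      · have heq : w * (e * q) = e * q * w := by
          rw [← mul_inv_eq_iff_eq_mul]
          calc w * (e * q) * w⁻¹ = (w * e * w⁻¹) * (w * q * w⁻¹) := by group
            _ = e * (a * q) * a := by rw [h, hwq]; group
            _ = e * q * (a * a) := by rw [hE.comm F haE hqE]; group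
            _ = e * q := by rw [hE.sq F haE, mul_one]
        refine (hmem _).2 ⟨ι (e * q) * (y a * ι e₁),
          (Star ι y E).mul_mem (ι_mem_star (E.mul_mem he hqE)) hmS, ?_⟩
        calc y w * (ι (e * q) * (y a * ι e₁)) * y w = (y w * ι (e * q)) * (y a * ι e₁) * y w := by
              group
          _ = ι (e * q) * (y w * (y a * ι e₁) * y w) := by rw [hWe _ heq]; group
          _ = ι e := by rw [hq, ← map_mul, mul_assoc, hE.sq F hqE, mul_one]
  intro m hm
  apply hle
  exact ⟨m, hm, rfl⟩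

/-- **Step 3'** (helper508): `y_{rs}` normalises `E*` -/
theorem rs_conj (hE : Good z y E) (F : Fam ι t z y) {r s : X} (hr : Tv z E r) (hs : Tv z E s)
    (hrs : r * s = s * r) (hC : r * s ∈ Cl z)
    (dc : ∀ x, (∀ c, c * r = r * c → c * s = s * c → x * c = c * x) → ∀ e ∈ E, x * e * x⁻¹ ∈ E) :
    ∀ m ∈ Star ι y E, y (r * s) * m * (y (r * s))⁻¹ ∈ Star ι y E := by
  have hr2 := F.sq hr.wC
  have hs2 := F.sq hs.wC
  have h1 : Ac ι t (y s * y (r * s)) (s * (r * s)) :=
    (F.yac hs.wC).mul (F.yac hC) (F.ycomm hs.wC (by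
      calc r * s * s = r * (s * s) := by group
        _ = s * (s * r) := by rw [hs2, mul_one, ← mul_assoc, hs2, one_mul]
        _ = s * (r * s) := by rw [hrs])).symm
  have hsrs : s * (r * s) = r := by rw [hrs, ← mul_assoc, hs2, one_mul]
  rw [hsrs] at h1
  have h2 : Ac ι t (y r * (y s * y (r * s))) (r * r) :=
    (F.yac hr.wC).mul h1 (F.ycomm hr.wC rfl).symm
  rw [hr2] at h2
  set g := y r * (y s * y (r * s)) with hg
  obtain ⟨x, hx, hxc, -⟩ := F.spl' (Ac.one_iff.1 h2)
  have hxE := dc x (fun c hcr hcs => hxc c (by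
    have a1 := F.ycomm hr.wC hcr
    have a2 := F.ycomm hs.wC hcs
    have a3 := F.ycomm hC (k := c) (by
      calc c * (r * s) = (c * r) * s := by group
        _ = r * (c * s) := by rw [hcr]; group
        _ = r * s * c := by rw [hcs]; group)
    calc g * ι c = y r * y s * (y (r * s) * ι c) := by rw [hg]; group
      _ = y r * (y s * ι c) * y (r * s) := by rw [← a3]; group
      _ = (y r * ι c) * y s * y (r * s) := by rw [← a2]; group
      _ = ι c * g := by rw [← a1, hg]; group))
  have hgS : ∀ m ∈ Star ι y E, g * m * g⁻¹ ∈ Star ι y E := by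
    intro m hm
    have h3 := hE.star_conj F hxE hm
    rcases hx with h | h
    · rwa [h]
    · have h4 := hE.star_t F h3
      rw [h]
      have e : t * ι x * m * (t * ι x)⁻¹ = t * (ι x * m * (ι x)⁻¹) * t := by
        rw [mul_inv_rev, F.tinv]; group
      rwa [e]
  intro m hm
  have h3 := hE.tv_conj F hs _ (hE.tv_conj F hr _ (hgS m hm))
  have e : y (r * s) = y s * (y r * g) := by
    rw [hg, ← mul_assoc (y r), F.ysq r hr.wC, one_mul, ← mul_assoc, F.ysq s hs.wC, one_mul]
  rw [e]
  have e2 : y s * (y r * g) * m * (y s * (y r * g))⁻¹ =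
      y s * (y r * (g * m * g⁻¹) * (y r)⁻¹) * (y s)⁻¹ := by group
  rwa [e2]

end Good

end Cfsg.Agent.OddHalf.M24
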